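import Cfsg.Agent.H839.Rad.Transv
import Cfsg.Agent.H460.AADef

/-!
# Two opposite transvections: the product is not a `p`-element (helper235, for S3833)

The versions of `H839.Rad.Transv` for the `AA` problem; `p = 3` is allowed.
-/

set_option autoImplicit false

namespace Cfsg.Agent.H235.AA.Transv

open Subgroup
open Matrix (SpecialLinearGroup)
open Cfsg.Agent.H839.Rad Cfsg.Agent.H460.AA
open ClassicalGeometry.SplitTorus (up lo mul00 mul01 mul10 mul11 ext2)

variable {K : Type*} [Group K] {p : ℕ}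

theorem act_pow [hp : Fact p.Prime] {a b h : K} {M : SpecialLinearGroup (Fin 2) (ZMod p)} (ha : a ^ p = 1)
    (hb : b ^ p = 1) (hab : a * b = b * a) (H : Act a b h M) (n : ℕ) : Act a b (h ^ n) (M ^ n) := by
  induction n with
  | zero => rw [pow_zero, pow_zero]; exact act_one
  | succ n ih => rw [pow_succ, pow_succ]; exact ih.mul ha hb hab H

theorem mn_eq_zero [hp : Fact p.Prime] {m n : ZMod p} {t : ℕ}
    (h : (up m * lo n : SpecialLinearGroup (Fin 2) (ZMod p)) ^ p ^ t = 1) : m * n = 0 := by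
  have h1 : ((up m * lo n : SpecialLinearGroup (Fin 2) (ZMod p)) : Matrix (Fin 2) (Fin 2) (ZMod p)) ^ p ^ t = 1 := by
    have h2 := congrArg (fun X : SpecialLinearGroup (Fin 2) (ZMod p) => (X : Matrix (Fin 2) (Fin 2) (ZMod p))) h
    simpa using h2
  set M := ((up m * lo n : SpecialLinearGroup (Fin 2) (ZMod p)) : Matrix (Fin 2) (Fin 2) (ZMod p)) with hM
  have h3 : (M - 1) ^ p ^ t = 0 := by
    rw [sub_pow_char_pow_of_commute (p := p) (n := t) (h := Commute.one_right M), h1, one_pow, sub_self]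
  have h4 : (M - 1).det ^ p ^ t = 0 := by
    rw [← Matrix.det_pow, h3, Matrix.det_zero]
  have h5 : (M - 1).det = 0 := by
    exact pow_eq_zero_iff (pow_ne_zero _ hp.out.ne_zero) |>.1 h4
  rw [Matrix.det_fin_two] at h5
  have e00 : M 0 0 = 1 + m * n := by
    have := mul00 (up m) (lo n)
    rw [hM]; rw [this]; simp
  have e01 : M 0 1 = m := by
    have := mul01 (up m) (lo n)
    rw [hM]; rw [this]; simp
  have e10 : M 1 0 = n := by
    have := mul10 (up m) (lo n)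
    rw [hM]; rw [this]; simp
  have e11 : M 1 1 = 1 := by
    have := mul11 (up m) (lo n)
    rw [hM]; rw [this]; simp
  simp only [Matrix.sub_apply, e00, e01, e10, e11, Matrix.one_apply_eq, Matrix.one_apply, Fin.isValue, one_ne_zero,
    zero_ne_one, if_false, sub_self, mul_zero, zero_sub, sub_zero] at h5
  exact neg_eq_zero.1 h5

/-- **The product of two opposite transvections is not a `p`-element.** -/
theorem not_pe_closure [hp : Fact p.Prime] {a b : K} (ha : orderOf a = p) (hb : orderOf b = p) (hab : a * b = b * a)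
    (hba : b ∉ zpowers a) {u v : K} {m n : ℤ} (hm : ¬ (p : ℤ) ∣ m) (hn : ¬ (p : ℤ) ∣ n) (hua : u * a = a * u)
    (hub : u * b * u⁻¹ = b * a ^ m) (hvb : v * b = b * v) (hva : v * a * v⁻¹ = a * b ^ n) : ¬ PE p (u * v) := by
  rintro hpe
  obtain ⟨t, ht⟩ := PE.pow_eq_one_iff.1 hpe
  have hap : a ^ p = 1 := ha ▸ pow_orderOf_eq_one a
  have hbp : b ^ p = 1 := hb ▸ pow_orderOf_eq_one b
  let SL := SpecialLinearGroup (Fin 2) (ZMod p)
  let U : SL := up (m : ZMod p)
  let V : SL := lo (n : ZMod p)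
  have hU : Act a b u U := by
    constructor
    · show u * a * u⁻¹ = pz a (1 : ZMod p) * pz b (0 : ZMod p)
      rw [hua, pz_one, pz_zero]; group
    · show u * b * u⁻¹ = pz a (m : ZMod p) * pz b (1 : ZMod p)
      rw [hub, pz_one, pz_intCast hap]
      exact ((show Commute a b from hab).zpow_left m).eq.symm
  have hV : Act a b v V := by
    constructor
    · show v * a * v⁻¹ = pz a (1 : ZMod p) * pz b (n : ZMod p)
      rw [hva, pz_one, pz_intCast hbp]
    · show v * b * v⁻¹ = pz a (0 : ZMod p) * pz b (1 : ZMod p)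
      rw [hvb, pz_one, pz_zero]; group
  have h1 : Act a b ((u * v) ^ p ^ t) ((U * V) ^ p ^ t) := act_pow hap hbp hab (hU.mul hap hbp hab hV) (p ^ t)
  rw [ht] at h1
  have h0 : (U * V) ^ p ^ t = 1 := h1.eq_one ha hb hab hba
  have h2 := mn_eq_zero (m := (m : ZMod p)) (n := (n : ZMod p)) (t := t) h0
  rcases mul_eq_zero.1 h2 with h3 | h3
  · exact hm ((ZMod.intCast_zmod_eq_zero_iff_dvd m p).1 h3)
  · exact hn ((ZMod.intCast_zmod_eq_zero_iff_dvd n p).1 h3)

/-- **`x * (q x q⁻¹)` is not a `p`-element** -/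
theorem not_pe_pair (hp : p.Prime) {w w₁ x q : K} (hw : orderOf w = p) (hw₁ : orderOf w₁ = p)
    (hww : w * w₁ = w₁ * w) (hne : w₁ ∉ zpowers w) {j k : ℤ} (hj : ¬ (p : ℤ) ∣ j) (hk : ¬ (p : ℤ) ∣ k)
    (hxw : x * w = w * x) (hxw₁ : x * w₁ * x⁻¹ = w₁ * w ^ j) (hqw₁ : q * w₁ = w₁ * q)
    (hqw : q * w * q⁻¹ = w * w₁ ^ k) : ¬ PE p (x * (q * x * q⁻¹)) := by
  have : Fact p.Prime := ⟨hp⟩
  have hwp : w ^ p = 1 := hw ▸ pow_orderOf_eq_one w
  have hw₁p : w₁ ^ p = 1 := hw₁ ▸ pow_orderOf_eq_one w₁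
  have c1 : Commute w w₁ := hww
  have hjk : ¬ (p : ℤ) ∣ j * k := by
    intro h
    rcases (Nat.prime_iff_prime_int.1 hp).dvd_or_dvd h with h | h
    · exact hj h
    · exact hk h
  have hb : orderOf (q * w * q⁻¹) = p := by rw [← MulAut.conj_apply, MulEquiv.orderOf_eq, hw]
  refine not_pe_closure (a := w) (b := q * w * q⁻¹) hw hb ?_ ?_ (m := j * k) (n := -(j * k)) hjk
    (by rwa [dvd_neg]) hxw ?_ ?_ ?_
  · rw [hqw]
    exact ((Commute.refl w).mul_right (c1.zpow_right k)).eq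
  · rw [hqw]
    intro h1
    apply hne
    have h2 : w₁ ^ k ∈ zpowers w := by
      have := mul_mem (inv_mem (mem_zpowers w)) h1
      rwa [inv_mul_cancel_left] at this
    -- `k` is invertible modulo `p`
    have h3 : IsCoprime (p : ℤ) k := (Nat.prime_iff_prime_int.1 hp).coprime_iff_not_dvd.2 hk
    obtain ⟨s, t, hst⟩ := h3
    have h4 : w₁ = (w₁ ^ k) ^ t := by
      rw [← zpow_mul]
      have h5 : k * t = 1 + p * (-s) := by linear_combination hst
      rw [h5, zpow_add, zpow_mul, zpow_natCast, hw₁p, one_zpow, mul_one, zpow_one]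
    rw [h4]
    exact zpow_mem h2 t
  · -- `x b x⁻¹ = b a ^ (j k)`
    rw [hqw]
    have e1 : x * (w * w₁ ^ k) * x⁻¹ = (x * w * x⁻¹) * (x * w₁ * x⁻¹) ^ k := by
      rw [conj_zpow]; group
    have c2 : Commute w₁ (w ^ j) := (c1.zpow_left j).symm
    rw [e1, hxw, mul_inv_cancel_right, hxw₁, c2.mul_zpow, ← zpow_mul, mul_assoc]
  · -- `x' b = b x'`
    have : q * x * q⁻¹ * (q * w * q⁻¹) = q * (x * w) * q⁻¹ := by group
    rw [this, hxw]
    group
  · -- `x' a x'⁻¹ = a b ^ (- j k)`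
    have e1 : q * x * q⁻¹ * w₁ * (q * x * q⁻¹)⁻¹ = w₁ * (q * w * q⁻¹) ^ j := by
      have e2 : q * x * q⁻¹ * w₁ * (q * x * q⁻¹)⁻¹ = q * (x * (q⁻¹ * w₁ * q) * x⁻¹) * q⁻¹ := by group
      have e3 : q⁻¹ * w₁ * q = w₁ := by rw [mul_assoc, ← hqw₁, inv_mul_cancel_left]
      have e4 : q * (w₁ * w ^ j) * q⁻¹ = (q * w₁ * q⁻¹) * (q * w * q⁻¹) ^ j := by rw [conj_zpow]; group
      rw [e2, e3, hxw₁, e4, hqw₁, mul_inv_cancel_right]
    have e5 : w = (q * w * q⁻¹) * w₁ ^ (-k) := by rw [hqw, mul_assoc, ← zpow_add, add_neg_cancel, zpow_zero, mul_one]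
    have e6 : q * x * q⁻¹ * (q * w * q⁻¹) * (q * x * q⁻¹)⁻¹ = q * w * q⁻¹ := by
      have : q * x * q⁻¹ * (q * w * q⁻¹) * (q * x * q⁻¹)⁻¹ = q * (x * w * x⁻¹) * q⁻¹ := by group
      rw [this, hxw, mul_inv_cancel_right]
    have c3 : Commute w₁ ((q * w * q⁻¹) ^ j) := by
      rw [hqw]
      exact ((c1.symm).mul_right ((Commute.refl w₁).zpow_right k)).zpow_right j
    have e7 : q * x * q⁻¹ * ((q * w * q⁻¹) * w₁ ^ (-k)) * (q * x * q⁻¹)⁻¹ =
        (q * x * q⁻¹ * (q * w * q⁻¹) * (q * x * q⁻¹)⁻¹) * (q * x * q⁻¹ * w₁ * (q * x * q⁻¹)⁻¹) ^ (-k) := by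
      rw [conj_zpow]; group
    conv_lhs => rw [e5]
    rw [e7, e6, e1, c3.mul_zpow, ← zpow_mul, ← mul_assoc, ← e5]
    congr 2
    ring

end Cfsg.Agent.H235.AA.Transv
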