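import Cfsg.Agent.H839.Rad.Center
import Cfsg.Agent.H235.AA.Transv
import Cfsg.Agent.H235.AA.Tools

/-!
# The structure lemma for the `AA` problem (helper235, after helper839's `H839.Rad.Center`)

`Centre p w w₁ g Q` as in `H839.Rad.Center`; for every prime `p` (`p = 3` included, no hypothesis on the centre):

* `false_of_mem` : no element `x` of order `p` of `Q` has `PC p x`;
* `false_of_move` : no element `x` with `x w = w x`, `x w₁ x⁻¹ = w₁ w ^ j`, `p ∤ j`, has `PC p x`;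
* `np_of_sylow`, `np_of_index`, `np_of_normal` : `NP p K`, as `noRad_of_sylow` etc.
-/

set_option autoImplicit false

namespace Cfsg.Agent.H235.AA.Center

open Subgroup Cfsg Cfsg.Agent.H459.Rad Cfsg.Agent.H459.Iface Cfsg.Agent.H839.Rad Cfsg.Agent.H235.AA.Tools
  Cfsg.Agent.H235.AA.Transv

variable {K : Type*} [Group K] {p : ℕ} {w w₁ g : K} {Q : Subgroup K}

/-- **elements moving `w₁`** -/
theorem false_of_move (D : Centre p w w₁ g Q) (hp : p.Prime)  {x : K} {j : ℤ}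
    (hj : ¬ (p : ℤ) ∣ j) (hxw : x * w = w * x) (hx : x * w₁ * x⁻¹ = w₁ * w ^ j) (h : PC p x) : False := by
  obtain ⟨q, k, hk, h1, h2⟩ := D.exists_q hp
  exact not_pe_pair hp D.ho D.ho₁ D.ww D.hnot hj hk hxw hx h1 h2 (h q)

/-- **elements of `Q`** -/
theorem false_of_mem (D : Centre p w w₁ g Q) (hp : p.Prime)  {x : K}
    (hx : x ∈ Q) (ho : orderOf x = p) (h : PC p x) : False := by
  -- it suffices to treat the elements outside of `⟨w⟩`
  have key : ∀ x ∈ Q, x ∉ zpowers w → PC p x → False := by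
    intro x hx hxw h
    obtain ⟨c, hcw, hcQ, hne⟩ : ∃ c : K, c * w = w * c ∧ (∀ a ∈ Q, c * a * c⁻¹ ∈ Q) ∧
        x * (c * w₁ * c⁻¹) ≠ c * w₁ * c⁻¹ * x := by
      by_contra h1
      push Not at h1
      exact hxw (D.hirr x hx h1)
    -- `c ^ (n - 1) = c⁻¹`
    have hne' : (c⁻¹ * x * c) * w₁ ≠ w₁ * (c⁻¹ * x * c) := by
      intro h1
      apply hne
      calc x * (c * w₁ * c⁻¹) = c * ((c⁻¹ * x * c) * w₁) * c⁻¹ := by group
        _ = c * (w₁ * (c⁻¹ * x * c)) * c⁻¹ := by rw [h1]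
        _ = c * w₁ * c⁻¹ * x := by group
    -- the commutator of `x` and `c w₁ c⁻¹`
    obtain ⟨j, hj⟩ := mem_zpowers_iff.1 (D.hcomm x hx _ (hcQ _ D.hmem))
    have cw : Commute c w := hcw
    have e0 : c⁻¹ * w ^ j * c = w ^ j := by
      rw [mul_assoc, ← (cw.zpow_right j).eq, inv_mul_cancel_left]
    have e1 : (c⁻¹ * x * c) * w₁ * (c⁻¹ * x * c)⁻¹ = w₁ * w ^ j := by
      rw [← ((show Commute w w₁ from D.ww).zpow_left j).eq]
      calc (c⁻¹ * x * c) * w₁ * (c⁻¹ * x * c)⁻¹ = c⁻¹ * (x * (c * w₁ * c⁻¹) * x⁻¹ * (c * w₁ * c⁻¹)⁻¹) * c * w₁ := by group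
        _ = c⁻¹ * w ^ j * c * w₁ := by rw [hj]
        _ = w ^ j * w₁ := by rw [e0]
    have hpj : ¬ (p : ℤ) ∣ j := by
      intro h1
      rw [zpow_eq_one_of_dvd D.ho h1, mul_one, mul_inv_eq_iff_eq_mul] at e1
      exact hne' e1
    have e2 : (c⁻¹ * x * c) * w = w * (c⁻¹ * x * c) := by
      have h1 : x * w = w * x := D.hc x hx
      have cxw : Commute (c⁻¹ * x * c) w := (cw.inv_left.mul_left h1).mul_left cw
      exact cxw
    have h2 := (PC.conj h c⁻¹)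
    rw [inv_inv] at h2
    exact false_of_move D hp hpj e2 e1 h2
  by_cases hxw : x ∈ zpowers w
  · obtain ⟨i, rfl⟩ := mem_zpowers_iff.1 hxw
    have hi : ¬ (p : ℤ) ∣ i := by
      intro h1
      rw [zpow_eq_one_of_dvd D.ho h1, orderOf_one] at ho
      exact hp.one_lt.ne ho
    have e1 : g * w ^ i * g⁻¹ = w₁ ^ i := by rw [← D.hg, conj_zpow]
    refine key (g * w ^ i * g⁻¹) (by rw [e1]; exact zpow_mem D.hmem i) ?_ ((PC.conj h g))
    rw [e1]
    exact fun h1 => D.hnot (mem_of_zpow hp D.ho₁ hi h1)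
  · exact key x hx hxw h

/-- **`Q` a Sylow subgroup** -/
theorem np_of_sylow [Finite K] (D : Centre p w w₁ g Q) (hp : p.Prime) 
    (hQ : IsPGroup p ↥Q) (hcard : ¬ p * Nat.card ↥Q ∣ Nat.card K) : NP p K := by
  intro x hx _ h
  have : Fact p.Prime := ⟨hp⟩
  have hi : ¬ p ∣ Q.index := by
    intro h1
    apply hcard
    rw [← Q.card_mul_index, mul_comm p]
    exact mul_dvd_mul_left _ h1
  let P : Sylow p K := hQ.toSylow hi
  have hx' : IsPGroup p ↥(zpowers x) := IsPGroup.of_card (n := 1) (by rw [Nat.card_zpowers, hx, pow_one])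
  obtain ⟨P', hP'⟩ := hx'.exists_le_sylow
  obtain ⟨k, hk⟩ := MulAction.exists_smul_eq K P' P
  have h1 : k * x * k⁻¹ ∈ (P : Subgroup K) := by
    rw [← hk, Sylow.coe_subgroup_smul]
    exact smul_mem_pointwise_smul x (MulAut.conj k) _ (hP' (mem_zpowers x))
  exact false_of_mem D hp (x := k * x * k⁻¹) h1 (by rw [← MulAut.conj_apply, MulEquiv.orderOf_eq, hx]) ((PC.conj h k))

/-- **`Q` of index `p` in a Sylow subgroup** -/
theorem np_of_index [Finite K] (D : Centre p w w₁ g Q) (hp : p.Prime) 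
    (hQ : IsPGroup p ↥Q) (hcard : ¬ p ^ 2 * Nat.card ↥Q ∣ Nat.card K)
    (h4 : p ^ 4 ≤ Nat.card ↥Q)
    (hE : ∀ e : K, g⁻¹ * e * g ∈ Q → e * w = w * e → ∀ a ∈ Q, e * a * e⁻¹ ∈ Q) : NP p K := by
  intro x hx _ h
  have hpF : Fact p.Prime := ⟨hp⟩
  have cww : Commute w w₁ := D.ww
  -- `Q₁ = g Q g⁻¹`
  have hQ₁ : ∀ e : K, e ∈ Q.map (MulAut.conj g).toMonoidHom ↔ g⁻¹ * e * g ∈ Q := by
    intro e
    constructor
    · rintro ⟨a, ha, rfl⟩
      have : g⁻¹ * (g * a * g⁻¹) * g = a := by group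
      change g⁻¹ * (g * a * g⁻¹) * g ∈ Q
      rw [this]
      exact ha
    · intro h
      refine ⟨g⁻¹ * e * g, h, ?_⟩
      change g * (g⁻¹ * e * g) * g⁻¹ = e
      group
  -- the subgroups
  let F : Subgroup K := Q ⊓ centralizer ({w₁} : Set K)
  let E : Subgroup K := Q.map (MulAut.conj g).toMonoidHom ⊓ centralizer ({w} : Set K)
  have memF : ∀ a : K, a ∈ F ↔ a ∈ Q ∧ a * w₁ = w₁ * a := fun a => by
    rw [mem_inf, mem_centralizer_singleton_iff]
  have memE : ∀ e : K, e ∈ E ↔ g⁻¹ * e * g ∈ Q ∧ e * w = w * e := fun e => by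
    rw [mem_inf, mem_centralizer_singleton_iff, hQ₁]
  have hcF : Nat.card ↥F * p = Nat.card ↥Q := D.card_inf hp D.hmem D.hnot
  have hcE : Nat.card ↥E * p = Nat.card ↥Q := by
    have h1 : E = (Q ⊓ centralizer ({g⁻¹ * w * g} : Set K)).map (MulAut.conj g).toMonoidHom := by
      ext e
      rw [memE]
      constructor
      · rintro ⟨h1, h2⟩
        refine ⟨g⁻¹ * e * g, ⟨h1, mem_centralizer_singleton_iff.2 ?_⟩, ?_⟩
        · calc g⁻¹ * e * g * (g⁻¹ * w * g) = g⁻¹ * (e * w) * g := by group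
            _ = g⁻¹ * (w * e) * g := by rw [h2]
            _ = _ := by group
        · change g * (g⁻¹ * e * g) * g⁻¹ = e
          group
      · rintro ⟨a, ⟨h1, h2⟩, rfl⟩
        have h3 := mem_centralizer_singleton_iff.1 h2
        change g⁻¹ * (g * a * g⁻¹) * g ∈ Q ∧ g * a * g⁻¹ * w = w * (g * a * g⁻¹)
        constructor
        · have : g⁻¹ * (g * a * g⁻¹) * g = a := by group
          rw [this]
          exact h1
        · calc g * a * g⁻¹ * w = g * (a * (g⁻¹ * w * g)) * g⁻¹ := by group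
            _ = g * ((g⁻¹ * w * g) * a) * g⁻¹ := by rw [h3]
            _ = _ := by group
    rw [h1, card_map_of_injective (MulAut.conj g).injective]
    exact D.card_inf hp D.hback (D.back_not hp)
  have hEF : Nat.card ↥E = Nat.card ↥F := Nat.eq_of_mul_eq_mul_right hp.pos (hcE.trans hcF.symm)
  -- `E` commutes with `w`, `w₁`
  have hEw : ∀ e ∈ E, e * w = w * e := fun e he => ((memE e).1 he).2
  have hEw₁ : ∀ e ∈ E, e * w₁ = w₁ * e := by
    intro e he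
    have h1 := D.hc _ ((memE e).1 he).1
    rw [← D.hg]
    calc e * (g * w * g⁻¹) = g * ((g⁻¹ * e * g) * w) * g⁻¹ := by group
      _ = g * (w * (g⁻¹ * e * g)) * g⁻¹ := by rw [h1]
      _ = _ := by group
  have hEQ : ∀ e ∈ E, ∀ a ∈ Q, e * a * e⁻¹ ∈ Q := fun e he => hE e ((memE e).1 he).1 (hEw e he)
  -- commutators of `E`
  have hEcomm : ∀ a ∈ E, ∀ b ∈ E, a * b * a⁻¹ * b⁻¹ ∈ zpowers w₁ := by
    intro a ha b hb
    obtain ⟨i, hi⟩ := mem_zpowers_iff.1 (D.hcomm _ ((memE a).1 ha).1 _ ((memE b).1 hb).1)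
    refine mem_zpowers_iff.2 ⟨i, ?_⟩
    rw [← D.hg, conj_zpow, hi]
    group
  have hcap : ∀ z, z ∈ zpowers w → z ∈ zpowers w₁ → z = 1 := by
    intro z h1 h2
    by_contra h3
    apply D.hnot
    obtain ⟨i, rfl⟩ := mem_zpowers_iff.1 h2
    exact mem_of_zpow hp D.ho₁ (fun h4 => h3 (zpow_eq_one_of_dvd D.ho₁ h4)) h1
  -- `E ≠ F`
  obtain ⟨y₁, hy₁, y₂, hy₂, hy⟩ : ∃ y₁ ∈ E, ∃ y₂ ∈ E, y₁ * y₂ ≠ y₂ * y₁ := by
    obtain ⟨a, ha, b, hb, hav, hbv, hab⟩ := D.exists_noncomm hp h4 D.hback (D.back_not hp)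
    have conv : ∀ a ∈ Q, a * (g⁻¹ * w * g) = g⁻¹ * w * g * a → g * a * g⁻¹ ∈ E := by
      intro a ha h
      rw [memE]
      constructor
      · have : g⁻¹ * (g * a * g⁻¹) * g = a := by group
        rw [this]
        exact ha
      · calc g * a * g⁻¹ * w = g * (a * (g⁻¹ * w * g)) * g⁻¹ := by group
          _ = g * ((g⁻¹ * w * g) * a) * g⁻¹ := by rw [h]
          _ = _ := by group
    refine ⟨_, conv a ha hav, _, conv b hb hbv, fun h => hab ?_⟩
    have h1 : g * (a * b) * g⁻¹ = g * (b * a) * g⁻¹ := by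
      calc g * (a * b) * g⁻¹ = g * a * g⁻¹ * (g * b * g⁻¹) := by group
        _ = g * b * g⁻¹ * (g * a * g⁻¹) := h
        _ = _ := by group
    exact mul_left_cancel (mul_right_cancel h1)
  obtain ⟨u, huE, huF⟩ : ∃ u ∈ E, u ∉ F := by
    by_contra h1
    push Not at h1
    apply hy
    have h2 := hEcomm y₁ hy₁ y₂ hy₂
    have h3 := hcap _ (D.hcomm y₁ ((memF _).1 (h1 _ hy₁)).1 y₂ ((memF _).1 (h1 _ hy₂)).1) h2
    rw [mul_inv_eq_one, mul_inv_eq_iff_eq_mul] at h3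
    exact h3
  have huQ : u ∉ Q := fun h1 => huF ((memF u).2 ⟨h1, hEw₁ u huE⟩)
  -- `P₀ = Q E`
  have hQnorm : E ≤ normalizer (Q : Set K) := by
    intro e he
    rw [mem_normalizer_iff]
    intro a
    refine ⟨fun ha => hEQ e he a ha, fun ha => ?_⟩
    have h1 := hEQ _ (inv_mem he) _ ha
    have h2 : e⁻¹ * (e * a * e⁻¹) * e⁻¹⁻¹ = a := by group
    rwa [h2] at h1
  have hEp : IsPGroup p ↥E := (hQ.map (MulAut.conj g).toMonoidHom).to_le inf_le_left
  let P₀ : Subgroup K := E ⊔ Q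
  have hP₀ : IsPGroup p ↥P₀ := hEp.to_sup_of_normal_right' hQ hQnorm
  have hQP : Q ≤ P₀ := le_sup_right
  have hEP : E ≤ P₀ := le_sup_left
  have hrel : Q.relIndex P₀ = p := by
    obtain ⟨n, hn⟩ := hP₀.index (Q.subgroupOf P₀)
    have hn' : Q.relIndex P₀ = p ^ n := hn
    have h1 : Nat.card ↥P₀ = Nat.card ↥Q * p ^ n := by
      rw [← hn', ← relIndex_bot_left, ← relIndex_bot_left, relIndex_mul_relIndex _ _ _ bot_le hQP]
    have h2 : n ≤ 1 := by
      by_contra h3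
      apply hcard
      refine Dvd.dvd.trans ?_ (card_subgroup_dvd_card P₀)
      rw [h1, mul_comm]
      exact mul_dvd_mul_left _ (pow_dvd_pow p (by omega))
    interval_cases n
    · exfalso
      rw [pow_zero, relIndex_eq_one] at hn'
      exact huQ (hn' (hEP huE))
    · rw [hn', pow_one]
  have hcP : Nat.card ↥P₀ = Nat.card ↥Q * p := by
    rw [← hrel, ← relIndex_bot_left, ← relIndex_bot_left, relIndex_mul_relIndex _ _ _ bot_le hQP]
  -- `x` is conjugate into `P₀`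
  have hi : ¬ p ∣ P₀.index := by
    intro h1
    apply hcard
    rw [← P₀.card_mul_index, hcP]
    obtain ⟨m, hm⟩ := h1
    exact ⟨m, by rw [hm]; ring⟩
  let P : Sylow p K := hP₀.toSylow hi
  have hx' : IsPGroup p ↥(zpowers x) := IsPGroup.of_card (n := 1) (by rw [Nat.card_zpowers, hx, pow_one])
  obtain ⟨P', hP'⟩ := hx'.exists_le_sylow
  obtain ⟨k, hk⟩ := MulAction.exists_smul_eq K P' P
  have hxk : k * x * k⁻¹ ∈ P₀ := by
    have h1 : k * x * k⁻¹ ∈ (P : Subgroup K) := by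
      rw [← hk, Sylow.coe_subgroup_smul]
      exact smul_mem_pointwise_smul x (MulAut.conj k) _ (hP' (mem_zpowers x))
    exact h1
  have hok : orderOf (k * x * k⁻¹) = p := by rw [← MulAut.conj_apply, MulEquiv.orderOf_eq, hx]
  have hpk := (PC.conj h k)
  -- the coset of `x`
  have hQn : ∀ b ∈ P₀, ∀ a ∈ Q, b * a * b⁻¹ ∈ Q := by
    intro b hb a ha
    have h1 : P₀ ≤ normalizer (Q : Set K) := sup_le hQnorm le_normalizer
    exact (mem_normalizer_iff.1 (h1 hb) a).1 ha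
  obtain ⟨i, hi⟩ := exists_pow_mul hp hQn hrel (hEP huE) huQ hxk
  -- `x = e q₀`
  obtain ⟨e, heE, q₀, hq₀, hxe⟩ : ∃ e ∈ E, ∃ q₀ ∈ Q, k * x * k⁻¹ = e * q₀ :=
    ⟨u ^ i, pow_mem huE i, _, hi, by group⟩
  rw [hxe] at hok hpk
  have hew := hEw e heE
  have hew₁ := hEw₁ e heE
  have hqw := D.hc q₀ hq₀
  by_cases hqF : q₀ * w₁ = w₁ * q₀
  · -- `q₀ ∈ F`
    have hq₀F : q₀ ∈ F := (memF _).2 ⟨hq₀, hqF⟩
    by_cases heQ : e ∈ Q
    · exact false_of_mem D hp (mul_mem heQ hq₀) hok hpk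
    -- an element of `Q` moving `w₁`
    obtain ⟨a, ha, haw⟩ : ∃ a ∈ Q, w₁ * a ≠ a * w₁ := by
      by_contra h1
      push Not at h1
      exact D.hnot (D.mem_of_central D.hmem h1)
    obtain ⟨j, hj, haj⟩ := D.exists_j ha (Ne.symm haw)
    let f₀ : K := a * e * a⁻¹ * e⁻¹
    have hf₀Q : f₀ ∈ Q := by
      have h1 : f₀ = a * (e * a⁻¹ * e⁻¹) := by simp only [f₀]; group
      rw [h1]
      exact mul_mem ha (hEQ e heE _ (inv_mem ha))
    -- `e` commutes with `w₁ w ^ i`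
    have hf₀w : f₀ * w₁ = w₁ * f₀ := by
      have h1 : a⁻¹ * w₁ * a = w₁ * w ^ (-j) := by
        have h2 : w₁ = a * (w₁ * w ^ (-j)) * a⁻¹ := by
          have c1 : Commute a w := D.hc a ha
          calc w₁ = w₁ * w ^ j * w ^ (-j) := by rw [mul_assoc, ← zpow_add, add_neg_cancel, zpow_zero, mul_one]
            _ = a * w₁ * a⁻¹ * w ^ (-j) := by rw [haj]
            _ = a * w₁ * (a⁻¹ * w ^ (-j)) := by group
            _ = a * w₁ * (w ^ (-j) * a⁻¹) := by rw [(c1.inv_left.zpow_right (-j)).eq]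
            _ = _ := by group
        conv_lhs => rw [h2]
        group
      have c2 : Commute e (w₁ * w ^ (-j)) :=
        (show Commute e w₁ from hew₁).mul_right ((show Commute e w from hew).zpow_right (-j))
      have c3 : Commute (a * e * a⁻¹) w₁ := by
        have h2 : a * (a⁻¹ * w₁ * a) * a⁻¹ = w₁ := by group
        show a * e * a⁻¹ * w₁ = w₁ * (a * e * a⁻¹)
        calc a * e * a⁻¹ * w₁ = a * (e * (a⁻¹ * w₁ * a)) * a⁻¹ := by group
          _ = a * ((a⁻¹ * w₁ * a) * e) * a⁻¹ := by rw [h1, c2.eq]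
          _ = _ := by group
      exact (c3.mul_left (show Commute e w₁ from hew₁).inv_left).eq
    have hf₀F : f₀ ∈ F := (memF _).2 ⟨hf₀Q, hf₀w⟩
    -- `D₀ = E ∩ F`
    let D₀ : Subgroup K := E ⊓ F
    have hwD : w ∈ D₀ := by
      refine mem_inf.2 ⟨(memE _).2 ⟨D.hback, rfl⟩, (memF _).2 ⟨D.hw, D.ww⟩⟩
    have hzD : zpowers w ≤ D₀ := by rw [zpowers_le]; exact hwD
    have hD₀Q : ∀ b ∈ Q, ∀ d ∈ D₀, b * d * b⁻¹ ∈ D₀ := by
      intro b hb d hd
      have h1 : b * d * b⁻¹ = (b * d * b⁻¹ * d⁻¹) * d := by group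
      rw [h1]
      exact mul_mem (hzD (D.hcomm b hb d ((memF d).1 hd.2).1)) hd
    have hQE : ∀ y ∈ E, ∃ l : ℕ, ∃ d ∈ D₀, y = e ^ l * d := by
      intro y hy
      obtain ⟨l, hl⟩ := exists_pow_mul hp hQn hrel (hEP heE) heQ (hEP hy)
      have h1 : (e ^ l)⁻¹ * y ∈ E := mul_mem (inv_mem (pow_mem heE l)) hy
      exact ⟨l, _, mem_inf.2 ⟨h1, (memF _).2 ⟨hl, hEw₁ _ h1⟩⟩, by group⟩
    have hf₀D : f₀ ∉ E := by
      intro h1
      -- `a` normalises `E`
      have h2 : ∀ y ∈ E, a * y * a⁻¹ ∈ E := by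
        intro y hy
        obtain ⟨l, d, hd, rfl⟩ := hQE y hy
        have h3 : a * (e ^ l * d) * a⁻¹ = (a * e * a⁻¹) ^ l * (a * d * a⁻¹) := by
          rw [conj_pow]; group
        have h4 : a * e * a⁻¹ = f₀ * e := by simp only [f₀]; group
        rw [h3, h4]
        exact mul_mem (pow_mem (mul_mem h1 heE) l) (hD₀Q a ha d hd).1
      -- `[E, E] = ⟨w₁⟩`, so `a` normalises `⟨w₁⟩`
      have h3 := hEcomm y₁ hy₁ y₂ hy₂
      obtain ⟨l, hl⟩ := mem_zpowers_iff.1 h3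
      have h4 := hEcomm _ (h2 y₁ hy₁) _ (h2 y₂ hy₂)
      have h5 : a * y₁ * a⁻¹ * (a * y₂ * a⁻¹) * (a * y₁ * a⁻¹)⁻¹ * (a * y₂ * a⁻¹)⁻¹ = (w₁ * w ^ j) ^ l := by
        rw [← haj, conj_zpow, hl]
        group
      have hlp : ¬ (p : ℤ) ∣ l := by
        intro h6
        rw [zpow_eq_one_of_dvd D.ho₁ h6] at hl
        apply hy
        have h7 := hl.symm
        rw [mul_inv_eq_one, mul_inv_eq_iff_eq_mul] at h7
        exact h7
      rw [h5, (cww.symm.zpow_right j).mul_zpow] at h4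
      have h6 : (w ^ j) ^ l ∈ zpowers w₁ := by
        have := mul_mem (inv_mem (zpow_mem (mem_zpowers w₁) l)) h4
        rwa [inv_mul_cancel_left] at this
      rw [← zpow_mul] at h6
      have h7 := hcap _ (zpow_mem (mem_zpowers w) (j * l)) h6
      have h8 : (p : ℤ) ∣ j * l := by
        rw [← D.ho]
        exact orderOf_dvd_iff_zpow_eq_one.2 h7
      rcases (Nat.prime_iff_prime_int.1 hp).dvd_or_dvd h8 with h9 | h9
      · exact hj h9
      · exact hlp h9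
    -- `|F : D₀| = p`
    have hDF : D₀ ≤ F := inf_le_right
    have hrelF : D₀.relIndex F = p := by
      have h5 : Nat.card ↥F ≤ Nat.card ↥D₀ * p := by
        rw [← hEF]
        have h6 : Nat.card ↥E = Nat.card ↥D₀ * Q.relIndex E := by
          have h7 : D₀ = Q ⊓ E := by
            ext y
            rw [mem_inf, mem_inf, memF]
            exact ⟨fun h => ⟨h.2.1, h.1⟩, fun h => ⟨h.2, h.1, hEw₁ y h.2⟩⟩
          rw [h7, ← inf_relIndex_right Q E, ← relIndex_bot_left, ← relIndex_bot_left,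
            relIndex_mul_relIndex _ _ _ bot_le inf_le_right]
        rw [h6]
        refine Nat.mul_le_mul_left _ ?_
        rw [← hrel]
        exact relIndex_le_of_le_right hEP (by rw [hrel]; exact hp.ne_zero)
      have h6 : Nat.card ↥D₀ * D₀.relIndex F = Nat.card ↥F := by
        rw [← relIndex_bot_left, ← relIndex_bot_left, relIndex_mul_relIndex _ _ _ bot_le hDF]
      have h7 : D₀.relIndex F ≤ p := by
        have h8 : Nat.card ↥D₀ * D₀.relIndex F ≤ Nat.card ↥D₀ * p := by rw [h6]; exact h5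
        exact Nat.le_of_mul_le_mul_left h8 Nat.card_pos
      have hFp : IsPGroup p ↥F := hQ.to_le inf_le_left
      obtain ⟨n, hn⟩ := hFp.index (D₀.subgroupOf F)
      have hn' : D₀.relIndex F = p ^ n := hn
      rw [hn'] at h7 ⊢
      have h8 : n ≤ 1 := by
        by_contra h9
        have h10 : p ^ 2 ≤ p ^ n := Nat.pow_le_pow_right hp.pos (by omega)
        have h11 := hp.one_lt
        nlinarith
      interval_cases n
      · exfalso
        rw [pow_zero, relIndex_eq_one] at hn'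
        exact hf₀D (hn' hf₀F).1
      · rw [pow_one]
    have hFn : ∀ b ∈ F, ∀ d ∈ D₀, b * d * b⁻¹ ∈ D₀ := fun b hb => hD₀Q b ((memF b).1 hb).1
    -- `e q₀ e⁻¹ ∈ f₀ ^ l D₀`
    have hq₁ : e * q₀ * e⁻¹ ∈ F := by
      refine (memF _).2 ⟨hEQ e heE _ hq₀, ?_⟩
      exact (((show Commute e w₁ from hew₁).mul_left hqF).mul_left (show Commute e w₁ from hew₁).inv_left).eq
    obtain ⟨l, hl⟩ := exists_pow_mul hp hFn hrelF hf₀F (fun h => hf₀D h.1) hq₁
    -- `a ^ l e a ^ (- l) = f₀ ^ l w ^ s e`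
    have haf : ∃ m : ℤ, a * f₀ * a⁻¹ = f₀ * w ^ m := by
      obtain ⟨m, hm⟩ := mem_zpowers_iff.1 (D.hcomm a ha f₀ hf₀Q)
      refine ⟨m, ?_⟩
      rw [((show Commute f₀ w from D.hc f₀ hf₀Q).zpow_right m).eq, hm]
      group
    obtain ⟨m, hm⟩ := haf
    have caw : Commute a w := D.hc a ha
    have cfw : Commute f₀ w := D.hc f₀ hf₀Q
    have hal : ∀ l : ℕ, ∃ s : ℤ, a ^ l * e * (a ^ l)⁻¹ = f₀ ^ l * w ^ s * e := by
      intro l
      induction l with
      | zero => exact ⟨0, by simp⟩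
      | succ l ih =>
        obtain ⟨s, hs⟩ := ih
        refine ⟨m * l + s, ?_⟩
        have h1 : a ^ (l + 1) * e * (a ^ (l + 1))⁻¹ = a * (a ^ l * e * (a ^ l)⁻¹) * a⁻¹ := by
          rw [pow_succ']; group
        have h2 : a * (f₀ ^ l * w ^ s * e) * a⁻¹ = (a * f₀ * a⁻¹) ^ l * (a * w ^ s * a⁻¹) * (a * e * a⁻¹) := by
          rw [conj_pow]; group
        have h3 : a * w ^ s * a⁻¹ = w ^ s := by rw [(caw.zpow_right s).eq, mul_inv_cancel_right]
        have h5 : a * e * a⁻¹ = f₀ * e := by simp only [f₀]; group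
        rw [h1, hs, h2, h3, h5, hm, (cfw.zpow_right m).mul_pow, zpow_add, zpow_mul, zpow_natCast, pow_succ]
        have h6 : Commute ((w ^ m) ^ l * w ^ s) f₀ :=
          (((cfw.zpow_right m).pow_right l).symm).mul_left (cfw.zpow_right s).symm
        calc f₀ ^ l * (w ^ m) ^ l * w ^ s * (f₀ * e) = f₀ ^ l * (((w ^ m) ^ l * w ^ s) * f₀) * e := by group
          _ = f₀ ^ l * (f₀ * ((w ^ m) ^ l * w ^ s)) * e := by rw [h6.eq]
          _ = _ := by group
    obtain ⟨s, hs⟩ := hal l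
    -- `(a ^ l)⁻¹ (e q₀) a ^ l ∈ E`
    have hfin : (a ^ l)⁻¹ * (e * q₀) * a ^ l ∈ E := by
      have h1 : e * q₀ = (a ^ l * e * (a ^ l)⁻¹) * (e⁻¹ * (w ^ (-s) * ((f₀ ^ l)⁻¹ * (e * q₀ * e⁻¹))) * e) := by
        rw [hs]
        have h2 : w ^ s * w ^ (-s) = 1 := by rw [← zpow_add, add_neg_cancel, zpow_zero]
        calc e * q₀ = f₀ ^ l * (w ^ s * w ^ (-s)) * ((f₀ ^ l)⁻¹ * (e * q₀ * e⁻¹)) * e := by rw [h2]; group
          _ = _ := by group
      have h2 : w ^ (-s) * ((f₀ ^ l)⁻¹ * (e * q₀ * e⁻¹)) ∈ D₀ := mul_mem (zpow_mem hwD _) hl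
      have h3 : e⁻¹ * (w ^ (-s) * ((f₀ ^ l)⁻¹ * (e * q₀ * e⁻¹))) * e ∈ D₀ := by
        generalize w ^ (-s) * ((f₀ ^ l)⁻¹ * (e * q₀ * e⁻¹)) = d at h2
        have h4 := hEQ _ (inv_mem heE) d ((memF d).1 h2.2).1
        rw [inv_inv] at h4
        have h5 : e⁻¹ * d * e ∈ E := mul_mem (mul_mem (inv_mem heE) h2.1) heE
        exact mem_inf.2 ⟨h5, (memF _).2 ⟨h4, hEw₁ _ h5⟩⟩
      rw [h1]
      generalize e⁻¹ * (w ^ (-s) * ((f₀ ^ l)⁻¹ * (e * q₀ * e⁻¹))) * e = d at h3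
      have h4 : (a ^ l)⁻¹ * (a ^ l * e * (a ^ l)⁻¹ * d) * a ^ l = e * ((a ^ l)⁻¹ * d * (a ^ l)⁻¹⁻¹) := by group
      rw [h4]
      exact mul_mem heE (hD₀Q _ (inv_mem (pow_mem ha l)) d h3).1
    have h1 := ((memE _).1 hfin).1
    refine false_of_mem D hp h1 ?_ ?_
    · have h2 : g⁻¹ * ((a ^ l)⁻¹ * (e * q₀) * a ^ l) * g = (g⁻¹ * (a ^ l)⁻¹) * (e * q₀) * (g⁻¹ * (a ^ l)⁻¹)⁻¹ := by group
      rw [h2, ← MulAut.conj_apply, MulEquiv.orderOf_eq, hok]
    · have h2 : g⁻¹ * ((a ^ l)⁻¹ * (e * q₀) * a ^ l) * g = (g⁻¹ * (a ^ l)⁻¹) * (e * q₀) * (g⁻¹ * (a ^ l)⁻¹)⁻¹ := by group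
      rw [h2]
      exact (PC.conj hpk _)
  · -- `x` moves `w₁`
    obtain ⟨j, hj, hqj⟩ := D.exists_j hq₀ hqF
    refine false_of_move D hp hj (x := e * q₀) ?_ ?_ hpk
    · rw [mul_assoc, hqw, ← mul_assoc, hew, mul_assoc]
    · have c2 : Commute e (w₁ * w ^ j) :=
        (show Commute e w₁ from hew₁).mul_right ((show Commute e w from hew).zpow_right j)
      calc e * q₀ * w₁ * (e * q₀)⁻¹ = e * (q₀ * w₁ * q₀⁻¹) * e⁻¹ := by group
        _ = e * (w₁ * w ^ j) * e⁻¹ := by rw [hqj]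
        _ = w₁ * w ^ j := by rw [c2.eq]; group

/-- **`Q` of index `p` in a Sylow subgroup, `Q` normal in `C(w)`** -/
theorem np_of_normal [Finite K] (D : Centre p w w₁ g Q) (hp : p.Prime) 
    (hQ : IsPGroup p ↥Q) (hcard : ¬ p ^ 2 * Nat.card ↥Q ∣ Nat.card K) (h4 : p ^ 4 ≤ Nat.card ↥Q)
    (hN : ∀ c : K, c * w = w * c → ∀ a ∈ Q, c * a * c⁻¹ ∈ Q) : NP p K :=
  np_of_index D hp hQ hcard h4 fun e _ h2 => hN e h2


end Cfsg.Agent.H235.AA.Center
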