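import Cfsg.Agent.H235.AA.Tools

/-!
# The `AA` problem: assembling the rows (helper235)
-/

set_option autoImplicit false

namespace Cfsg.Agent.H235.AA.Tools

open Subgroup Cfsg Cfsg.Agent.H459.Rad Cfsg.Agent.H460.AA

/-- **assembling**: only the primes dividing `s` are left -/
theorem core_of_card {K : Type*} [Group K] [Finite K] [IsSimpleGroup K] {s m : ℕ} (hcard : Nat.card K = s * m)
    (hm : Squarefree m) (hn : ¬ (s * m).Prime)
    (hin : ∀ (p : ℕ) [Fact p.Prime], p ≠ 2 → ∀ x : MulAut K, orderOf x = p → ∃ a : K, x = MulAut.conj a)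
    (h : ∀ p : ℕ, p.Prime → p ≠ 2 → p ∣ s → NP p K) : Core K := by
  have hna : ¬ IsMulCommutative K := not_comm_of_card (by rw [hcard]; exact hn)
  refine core_of_NP (center_eq_bot hna) hin fun p hp hp2 => ?_
  by_cases hps : p ∣ s
  · exact h p hp.out hp2 hps
  · refine NP.of_not_sq hna hp2 fun h2 => ?_
    rw [hcard] at h2
    have h3 : Nat.Coprime (p ^ 2) s := Nat.Coprime.pow_left 2 ((Nat.Prime.coprime_iff_not_dvd hp.out).2 hps)
    have h4 : p ^ 2 ∣ m := h3.dvd_of_dvd_mul_left h2
    have h5 := hm p (by rw [← pow_two]; exact h4)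
    exact hp.out.one_lt.ne' (Nat.isUnit_iff.1 h5)

theorem squarefree_mul_of {m q : ℕ} (hm : Squarefree m) (hq : q.Prime) (h : ¬ q ∣ m) : Squarefree (m * q) := by
  rw [Nat.squarefree_mul ((Nat.Prime.coprime_iff_not_dvd hq).2 h).symm]
  exact ⟨hm, hq.squarefree⟩

open Cfsg.Agent.H839.Rad (RadFree)

/-- centralizers of conjugate elements -/
theorem radFree_cent_conj {K : Type*} [Group K] [Finite K] {p : ℕ} (hp : p.Prime) {z t g : K} (hg : g * z * g⁻¹ = t)
    (h : RadFree p ↥(centralizer ({z} : Set K))) : RadFree p ↥(centralizer ({t} : Set K)) := by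
  have h1 : (centralizer ({z} : Set K)).map (MulAut.conj g).toMonoidHom = centralizer ({t} : Set K) := by
    ext y
    constructor
    · rintro ⟨x, hx, rfl⟩
      have hx' := mem_centralizer_singleton_iff.1 hx
      rw [mem_centralizer_singleton_iff]
      show g * x * g⁻¹ * t = t * (g * x * g⁻¹)
      rw [← hg]
      calc g * x * g⁻¹ * (g * z * g⁻¹) = g * (x * z) * g⁻¹ := by group
        _ = g * z * g⁻¹ * (g * x * g⁻¹) := by rw [hx']; group
    · intro hy
      have hy' := mem_centralizer_singleton_iff.1 hy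
      rw [← hg] at hy'
      refine ⟨g⁻¹ * y * g, mem_centralizer_singleton_iff.2 ?_, ?_⟩
      · calc g⁻¹ * y * g * z = g⁻¹ * (y * (g * z * g⁻¹)) * g := by group
          _ = z * (g⁻¹ * y * g) := by rw [hy']; group
      · show g * (g⁻¹ * y * g) * g⁻¹ = y
        group
  rw [← h1]
  exact RadFree.congr hp ((centralizer ({z} : Set K)).equivMapOfInjective
    (MulAut.conj g).toMonoidHom (MulAut.conj g).injective).symm h

/-- a group with centre of order prime to `p` and central quotient `L` -/
theorem radFree_central {H : Type*} [Group H] [Finite H] {p : ℕ} (hp : p.Prime) (hc : ¬ p ∣ Nat.card (center H))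
    {L : Type*} [Group L] [Finite L] (e : H ⧸ center H ≃* L) (h : RadFree p L) : RadFree p H := by
  refine RadFree.of_surj hp (e.toMonoidHom.comp (QuotientGroup.mk' (center H)))
    (e.surjective.comp (QuotientGroup.mk'_surjective _)) ?_ h
  intro x hx ho
  have h1 : (QuotientGroup.mk' (center H)) x = 1 := e.injective (hx.trans (map_one e).symm)
  have h2 : x ∈ center H := (QuotientGroup.eq_one_iff _).1 h1
  apply hc
  rw [← ho, ← Subgroup.orderOf_mk _ h2]
  exact orderOf_dvd_natCard _

/-- alternating groups -/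
theorem radFree_alt {n p : ℕ} (hn : 5 ≤ n) (hp : p.Prime) : RadFree p (alternatingGroup (Fin n)) := by
  have h1 : IsSimpleGroup (alternatingGroup (Fin n)) := alternatingGroup.isSimpleGroup (by simpa using hn)
  refine RadFree.of_simple hp.one_lt.ne' fun h => ?_
  have h3 := IsSimpleGroup.comm_iff_isSolvable.2 h
  have : (⊤ : Subgroup (alternatingGroup (Fin n))) ≤ center _ := fun x _ => mem_center_iff.2 fun y => h3 y x
  rw [alternatingGroup.center_eq_bot (by simp; omega), le_bot_iff] at this
  exact absurd this top_ne_bot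

end Cfsg.Agent.H235.AA.Tools
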