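import Cfsg.Agent.H235.AA.HN3Mat
import Cfsg.Agent.H235.AA.Ext
import Cfsg.Agent.H235.AA.Row
import Cfsg.Agent.H839.Rad.HNFive
import Cfsg.Agent.CpAutHN.Main

/-!
# The `AA` problem for `HN`, `p = 3` and `p = 5`, and the row (helper235)

The relations of `W, A, B, C₁, D, G, F, k` read off from `HN3Mat.chk`; `ext` : `A, B, C₁, D` generate an extraspecial group
`3 ^ (1 + 4)` with centre `⟨W⟩`; `np_three`, `np_five`, `core`.
-/

set_option autoImplicit false
set_option linter.unusedSimpArgs false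

namespace Cfsg.Agent.H235.AA.HN3

open Subgroup Cfsg.Agent.H839.Rad Cfsg.Agent.H839.Rad.Ext Cfsg.Agent.H235.AA.Tools Cfsg.Agent.H460.AA
open Cfsg.Agent.H839.Rad.HN (conj_of)

/-- result 74 -/
noncomputable def W : Cfsg.Spor.HN := R 74
/-- result 64 -/
noncomputable def A : Cfsg.Spor.HN := R 64
/-- result 73 -/
noncomputable def B : Cfsg.Spor.HN := R 73
/-- result 72 -/
noncomputable def C₁ : Cfsg.Spor.HN := R 72
/-- result 57 -/
noncomputable def D : Cfsg.Spor.HN := R 57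
/-- result 68 -/
noncomputable def G : Cfsg.Spor.HN := R 68
/-- result 56 -/
noncomputable def F : Cfsg.Spor.HN := R 56
/-- result 60 -/
noncomputable def k : Cfsg.Spor.HN := R 60
/-- result 8 -/
noncomputable def Y₁ : Cfsg.Spor.HN := R 8
/-- result 5 -/
noncomputable def Y₂ : Cfsg.Spor.HN := R 5
/-- result 2 -/
noncomputable def Y₃ : Cfsg.Spor.HN := R 2

theorem r84 : R 84 = R 105 * (R 106 * 1) :=
  stepR (i := 84) (w := [20, 21]) (by decide) (by rfl)
theorem r64 : A = G * (W * (G * 1)) :=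
  stepR (i := 64) (w := [3, 9, 3]) (by decide) (by rfl)
theorem r56 : F = G * (D * (G * 1)) :=
  stepR (i := 56) (w := [11, 0, 11]) (by decide) (by rfl)
theorem r55 : R 55 = A * (A * 1) :=
  stepR (i := 55) (w := [8, 8]) (by decide) (by rfl)
theorem r54 : R 54 = B * (B * 1) :=
  stepR (i := 54) (w := [18, 18]) (by decide) (by rfl)
theorem r53 : R 53 = C₁ * (C₁ * 1) :=
  stepR (i := 53) (w := [18, 18]) (by decide) (by rfl)
theorem r52 : R 52 = D * (D * 1) :=
  stepR (i := 52) (w := [4, 4]) (by decide) (by rfl)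
theorem r51 : R 51 = W * (W * 1) :=
  stepR (i := 51) (w := [22, 22]) (by decide) (by rfl)
theorem r8 : Y₁ = R 55 * (B * (C₁ * (R 52 * 1))) :=
  stepR (i := 8) (w := [46, 64, 63, 43]) (by decide) (by rfl)
theorem r5 : Y₂ = B * (R 53 * 1) :=
  stepR (i := 5) (w := [67, 47]) (by decide) (by rfl)
theorem r2 : Y₃ = A * (R 54 * (D * 1)) :=
  stepR (i := 2) (w := [61, 51, 54]) (by decide) (by rfl)

theorem one_eq : R 84 = 1 := by
  rw [r84, show R 105 = Cfsg.Agent.HN.Rep.gens.getD 0 1 from genR 0, show R 106 = Cfsg.Agent.HN.Rep.gens.getD 1 1 from genR 1]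
  show Cfsg.Agent.HN.Rep.x * (Cfsg.Agent.HN.Rep.x⁻¹ * 1) = 1
  rw [mul_one, mul_inv_cancel]

theorem r50 : R 50 = G * (G * 1) :=
  stepR (i := 50) (w := [17, 17]) (by decide) (by rfl)
theorem e_g : G * G = 1 := by
  have h : R 50 = R 84 := eqR (i := 50) (j := 84) (by decide)
  simp only [r50, one_eq, r55, r54, r53, r52, r51, mul_one, mul_assoc] at h
  try simp only [mul_assoc]
  exact h
theorem r49 : R 49 = R 51 * (W * 1) :=
  stepR (i := 49) (w := [1, 24]) (by decide) (by rfl)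
theorem e_w3 : W * W * W = 1 := by
  have h : R 49 = R 84 := eqR (i := 49) (j := 84) (by decide)
  simp only [r49, one_eq, r55, r54, r53, r52, r51, mul_one, mul_assoc] at h
  try simp only [mul_assoc]
  exact h
theorem r48 : R 48 = R 54 * (B * 1) :=
  stepR (i := 48) (w := [5, 24]) (by decide) (by rfl)
theorem e_b3 : B * B * B = 1 := by
  have h : R 48 = R 84 := eqR (i := 48) (j := 84) (by decide)
  simp only [r48, one_eq, r55, r54, r53, r52, r51, mul_one, mul_assoc] at h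
  try simp only [mul_assoc]
  exact h
theorem r47 : R 47 = R 53 * (C₁ * 1) :=
  stepR (i := 47) (w := [5, 24]) (by decide) (by rfl)
theorem e_c3 : C₁ * C₁ * C₁ = 1 := by
  have h : R 47 = R 84 := eqR (i := 47) (j := 84) (by decide)
  simp only [r47, one_eq, r55, r54, r53, r52, r51, mul_one, mul_assoc] at h
  try simp only [mul_assoc]
  exact h
theorem r46 : R 46 = R 52 * (D * 1) :=
  stepR (i := 46) (w := [5, 10]) (by decide) (by rfl)
theorem e_d3 : D * D * D = 1 := by
  have h : R 46 = R 84 := eqR (i := 46) (j := 84) (by decide)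
  simp only [r46, one_eq, r55, r54, r53, r52, r51, mul_one, mul_assoc] at h
  try simp only [mul_assoc]
  exact h
theorem r45 : R 45 = A * (B * 1) :=
  stepR (i := 45) (w := [18, 27]) (by decide) (by rfl)
theorem r44 : R 44 = B * (A * (W * 1)) :=
  stepR (i := 44) (w := [28, 19, 29]) (by decide) (by rfl)
theorem e_ab : A * B = B * A * W := by
  have h : R 45 = R 44 := eqR (i := 45) (j := 44) (by decide)
  simp only [r45, r44, r55, r54, r53, r52, r51, mul_one, mul_assoc] at h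
  try simp only [mul_assoc]
  exact h
theorem r43 : R 43 = C₁ * (D * 1) :=
  stepR (i := 43) (w := [28, 13]) (by decide) (by rfl)
theorem r42 : R 42 = D * (C₁ * (W * 1)) :=
  stepR (i := 42) (w := [14, 29, 31]) (by decide) (by rfl)
theorem e_cd : C₁ * D = D * C₁ * W := by
  have h : R 43 = R 42 := eqR (i := 43) (j := 42) (by decide)
  simp only [r43, r42, r55, r54, r53, r52, r51, mul_one, mul_assoc] at h
  try simp only [mul_assoc]
  exact h
theorem r41 : R 41 = A * (C₁ * 1) :=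
  stepR (i := 41) (w := [22, 30]) (by decide) (by rfl)
theorem r40 : R 40 = C₁ * (A * 1) :=
  stepR (i := 40) (w := [31, 23]) (by decide) (by rfl)
theorem e_ac : A * C₁ = C₁ * A := by
  have h : R 41 = R 40 := eqR (i := 41) (j := 40) (by decide)
  simp only [r41, r40, r55, r54, r53, r52, r51, mul_one, mul_assoc] at h
  try simp only [mul_assoc]
  exact h
theorem r39 : R 39 = A * (D * 1) :=
  stepR (i := 39) (w := [24, 17]) (by decide) (by rfl)
theorem r38 : R 38 = D * (A * 1) :=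
  stepR (i := 38) (w := [18, 25]) (by decide) (by rfl)
theorem e_ad : A * D = D * A := by
  have h : R 39 = R 38 := eqR (i := 39) (j := 38) (by decide)
  simp only [r39, r38, r55, r54, r53, r52, r51, mul_one, mul_assoc] at h
  try simp only [mul_assoc]
  exact h
theorem r37 : R 37 = B * (C₁ * 1) :=
  stepR (i := 37) (w := [35, 34]) (by decide) (by rfl)
theorem r36 : R 36 = C₁ * (B * 1) :=
  stepR (i := 36) (w := [35, 36]) (by decide) (by rfl)
theorem e_bc : B * C₁ = C₁ * B := by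
  have h : R 37 = R 36 := eqR (i := 37) (j := 36) (by decide)
  simp only [r37, r36, r55, r54, r53, r52, r51, mul_one, mul_assoc] at h
  try simp only [mul_assoc]
  exact h
theorem r35 : R 35 = B * (D * 1) :=
  stepR (i := 35) (w := [37, 21]) (by decide) (by rfl)
theorem r34 : R 34 = D * (B * 1) :=
  stepR (i := 34) (w := [22, 38]) (by decide) (by rfl)
theorem e_bd : B * D = D * B := by
  have h : R 35 = R 34 := eqR (i := 35) (j := 34) (by decide)
  simp only [r35, r34, r55, r54, r53, r52, r51, mul_one, mul_assoc] at h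
  try simp only [mul_assoc]
  exact h
theorem r33 : R 33 = W * (A * 1) :=
  stepR (i := 33) (w := [40, 30]) (by decide) (by rfl)
theorem r32 : R 32 = A * (W * 1) :=
  stepR (i := 32) (w := [31, 41]) (by decide) (by rfl)
theorem e_wa : W * A = A * W := by
  have h : R 33 = R 32 := eqR (i := 33) (j := 32) (by decide)
  simp only [r33, r32, r55, r54, r53, r52, r51, mul_one, mul_assoc] at h
  try simp only [mul_assoc]
  exact h
theorem r31 : R 31 = W * (B * 1) :=
  stepR (i := 31) (w := [42, 41]) (by decide) (by rfl)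
theorem r30 : R 30 = B * (W * 1) :=
  stepR (i := 30) (w := [42, 43]) (by decide) (by rfl)
theorem e_wb : W * B = B * W := by
  have h : R 31 = R 30 := eqR (i := 31) (j := 30) (by decide)
  simp only [r31, r30, r55, r54, r53, r52, r51, mul_one, mul_assoc] at h
  try simp only [mul_assoc]
  exact h
theorem r29 : R 29 = W * (C₁ * 1) :=
  stepR (i := 29) (w := [44, 42]) (by decide) (by rfl)
theorem r28 : R 28 = C₁ * (W * 1) :=
  stepR (i := 28) (w := [43, 45]) (by decide) (by rfl)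
theorem e_wc : W * C₁ = C₁ * W := by
  have h : R 29 = R 28 := eqR (i := 29) (j := 28) (by decide)
  simp only [r29, r28, r55, r54, r53, r52, r51, mul_one, mul_assoc] at h
  try simp only [mul_assoc]
  exact h
theorem r27 : R 27 = W * (D * 1) :=
  stepR (i := 27) (w := [46, 29]) (by decide) (by rfl)
theorem r26 : R 26 = D * (W * 1) :=
  stepR (i := 26) (w := [30, 47]) (by decide) (by rfl)
theorem e_wd : W * D = D * W := by
  have h : R 27 = R 26 := eqR (i := 27) (j := 26) (by decide)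
  simp only [r27, r26, r55, r54, r53, r52, r51, mul_one, mul_assoc] at h
  try simp only [mul_assoc]
  exact h
theorem r25 : R 25 = G * (C₁ * (G * 1)) :=
  stepR (i := 25) (w := [42, 46, 42]) (by decide) (by rfl)
theorem e_gc : G * C₁ * G = C₁ * C₁ := by
  have h : R 25 = R 53 := eqR (i := 25) (j := 53) (by decide)
  simp only [r25, r55, r54, r53, r52, r51, mul_one, mul_assoc] at h
  try simp only [mul_assoc]
  exact h
theorem r24 : R 24 = F * (A * 1) :=
  stepR (i := 24) (w := [31, 39]) (by decide) (by rfl)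
theorem r23 : R 23 = A * (F * 1) :=
  stepR (i := 23) (w := [40, 32]) (by decide) (by rfl)
theorem e_fa : F * A = nf W A B C₁ D 1 0 0 0 0 * F := by
  have h : R 24 = R 23 := eqR (i := 24) (j := 23) (by decide)
  simp only [r24, r23, r55, r54, r53, r52, r51, mul_one, mul_assoc] at h
  try simp only [nf, zpow_ofNat, zpow_zero, zpow_one, pow_succ, pow_zero, one_mul, mul_one, mul_assoc]
  exact h
theorem r22 : R 22 = F * (B * 1) :=
  stepR (i := 22) (w := [33, 50]) (by decide) (by rfl)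
theorem r21 : R 21 = B * (C₁ * (R 52 * (W * (F * 1)))) :=
  stepR (i := 21) (w := [51, 50, 30, 52, 34]) (by decide) (by rfl)
theorem e_fb : F * B = nf W A B C₁ D 0 1 1 2 1 * F := by
  have h : R 22 = R 21 := eqR (i := 22) (j := 21) (by decide)
  simp only [r22, r21, r55, r54, r53, r52, r51, mul_one, mul_assoc] at h
  try simp only [nf, zpow_ofNat, zpow_zero, zpow_one, pow_succ, pow_zero, one_mul, mul_one, mul_assoc]
  exact h
theorem r20 : R 20 = F * (C₁ * 1) :=
  stepR (i := 20) (w := [35, 51]) (by decide) (by rfl)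
theorem r19 : R 19 = A * (C₁ * (F * 1)) :=
  stepR (i := 19) (w := [44, 52, 36]) (by decide) (by rfl)
theorem e_fc : F * C₁ = nf W A B C₁ D 1 0 1 0 0 * F := by
  have h : R 20 = R 19 := eqR (i := 20) (j := 19) (by decide)
  simp only [r20, r19, r55, r54, r53, r52, r51, mul_one, mul_assoc] at h
  try simp only [nf, zpow_ofNat, zpow_zero, zpow_one, pow_succ, pow_zero, one_mul, mul_one, mul_assoc]
  exact h
theorem r18 : R 18 = F * (D * 1) :=
  stepR (i := 18) (w := [37, 38]) (by decide) (by rfl)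
theorem r17 : R 17 = A * (D * (R 51 * (F * 1))) :=
  stepR (i := 17) (w := [46, 39, 33, 38]) (by decide) (by rfl)
theorem e_fd : F * D = nf W A B C₁ D 1 0 0 1 2 * F := by
  have h : R 18 = R 17 := eqR (i := 18) (j := 17) (by decide)
  simp only [r18, r17, r55, r54, r53, r52, r51, mul_one, mul_assoc] at h
  try simp only [nf, zpow_ofNat, zpow_zero, zpow_one, pow_succ, pow_zero, one_mul, mul_one, mul_assoc]
  exact h
theorem r16 : R 16 = k * (W * 1) :=
  stepR (i := 16) (w := [43, 57]) (by decide) (by rfl)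
theorem r15 : R 15 = W * (k * 1) :=
  stepR (i := 15) (w := [58, 44]) (by decide) (by rfl)
theorem e_kw : k * W = W * k := by
  have h : R 16 = R 15 := eqR (i := 16) (j := 15) (by decide)
  simp only [r16, r15, r55, r54, r53, r52, r51, mul_one, mul_assoc] at h
  try simp only [mul_assoc]
  exact h
theorem r14 : R 14 = k * (B * 1) :=
  stepR (i := 14) (w := [45, 58]) (by decide) (by rfl)
theorem r13 : R 13 = R 54 * (R 53 * (D * (k * 1))) :=
  stepR (i := 13) (w := [40, 39, 43, 46]) (by decide) (by rfl)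
theorem e_kb : k * B = nf W A B C₁ D 0 2 2 1 0 * k := by
  have h : R 14 = R 13 := eqR (i := 14) (j := 13) (by decide)
  simp only [r14, r13, r55, r54, r53, r52, r51, mul_one, mul_assoc] at h
  try simp only [nf, zpow_ofNat, zpow_zero, zpow_one, pow_succ, pow_zero, one_mul, mul_one, mul_assoc]
  exact h
theorem r12 : R 12 = k * (C₁ * 1) :=
  stepR (i := 12) (w := [47, 59]) (by decide) (by rfl)
theorem r11 : R 11 = R 55 * (R 53 * (k * 1)) :=
  stepR (i := 11) (w := [43, 41, 48]) (by decide) (by rfl)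
theorem e_kc : k * C₁ = nf W A B C₁ D 2 0 2 0 0 * k := by
  have h : R 12 = R 11 := eqR (i := 12) (j := 11) (by decide)
  simp only [r12, r11, r55, r54, r53, r52, r51, mul_one, mul_assoc] at h
  try simp only [nf, zpow_ofNat, zpow_zero, zpow_one, pow_succ, pow_zero, one_mul, mul_one, mul_assoc]
  exact h
theorem r10 : R 10 = k * (D * 1) :=
  stepR (i := 10) (w := [49, 46]) (by decide) (by rfl)
theorem r9 : R 9 = C₁ * (R 52 * (k * 1)) :=
  stepR (i := 9) (w := [62, 42, 50]) (by decide) (by rfl)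
theorem e_kd : k * D = nf W A B C₁ D 0 0 1 2 0 * k := by
  have h : R 10 = R 9 := eqR (i := 10) (j := 9) (by decide)
  simp only [r10, r9, r55, r54, r53, r52, r51, mul_one, mul_assoc] at h
  try simp only [nf, zpow_ofNat, zpow_zero, zpow_one, pow_succ, pow_zero, one_mul, mul_one, mul_assoc]
  exact h
theorem r7 : R 7 = k * (A * 1) :=
  stepR (i := 7) (w := [52, 56]) (by decide) (by rfl)
theorem r6 : R 6 = Y₁ * (k * 1) :=
  stepR (i := 6) (w := [1, 53]) (by decide) (by rfl)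
theorem e_kx1 : k * A = Y₁ * k := by
  have h : R 7 = R 6 := eqR (i := 7) (j := 6) (by decide)
  simp only [r7, r6, r55, r54, r53, r52, r51, mul_one, mul_assoc] at h
  try simp only [mul_assoc]
  exact h
theorem r4 : R 4 = k * (Y₁ * 1) :=
  stepR (i := 4) (w := [55, 3]) (by decide) (by rfl)
theorem r3 : R 3 = Y₂ * (k * 1) :=
  stepR (i := 3) (w := [1, 56]) (by decide) (by rfl)
theorem e_kx2 : k * Y₁ = Y₂ * k := by
  have h : R 4 = R 3 := eqR (i := 4) (j := 3) (by decide)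
  simp only [r4, r3, r55, r54, r53, r52, r51, mul_one, mul_assoc] at h
  try simp only [mul_assoc]
  exact h
theorem r1 : R 1 = k * (Y₂ * 1) :=
  stepR (i := 1) (w := [58, 3]) (by decide) (by rfl)
theorem r0 : R 0 = Y₃ * (k * 1) :=
  stepR (i := 0) (w := [1, 59]) (by decide) (by rfl)
theorem e_kx3 : k * Y₂ = Y₃ * k := by
  have h : R 1 = R 0 := eqR (i := 1) (j := 0) (by decide)
  simp only [r1, r0, r55, r54, r53, r52, r51, mul_one, mul_assoc] at h
  try simp only [mul_assoc]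
  exact h
theorem y1_eq : Y₁ = nf W A B C₁ D 2 1 1 2 0 := by
  rw [r8]
  simp only [r55, r54, r53, r52, r51, mul_one, mul_assoc]
  simp only [nf, zpow_ofNat, zpow_zero, zpow_one, pow_succ, pow_zero, one_mul, mul_one, mul_assoc]
theorem y2_eq : Y₂ = nf W A B C₁ D 0 1 2 0 0 := by
  rw [r5]
  simp only [r55, r54, r53, r52, r51, mul_one, mul_assoc]
  simp only [nf, zpow_ofNat, zpow_zero, zpow_one, pow_succ, pow_zero, one_mul, mul_one, mul_assoc]
theorem y3_eq : Y₃ = nf W A B C₁ D 1 2 0 1 0 := by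
  rw [r2]
  simp only [r55, r54, r53, r52, r51, mul_one, mul_assoc]
  simp only [nf, zpow_ofNat, zpow_zero, zpow_one, pow_succ, pow_zero, one_mul, mul_one, mul_assoc]

theorem G_inv : G⁻¹ = G := inv_eq_of_mul_eq_one_right e_g

theorem A_eq : A = G * W * G := by rw [r64, mul_one, mul_assoc]

theorem F_eq : F = G * D * G := by rw [r56, mul_one, mul_assoc]

theorem GWG : G * W * G⁻¹ = A := by rw [G_inv, A_eq]

theorem GAG : G * A * G⁻¹ = W := by
  rw [G_inv, A_eq]
  calc G * (G * W * G) * G = (G * G) * W * (G * G) := by group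
    _ = W := by rw [e_g, one_mul, mul_one]

theorem W_ne : W ≠ 1 := by
  have h := neR (i := 74) (j := 84) (by decide)
  rw [one_eq] at h
  exact h

theorem cube {x : Cfsg.Spor.HN} (h : x * x * x = 1) : x ^ 3 = 1 := by
  rw [pow_succ, pow_two]; exact h

theorem hW : orderOf W = 3 :=
  have : Fact (Nat.Prime 3) := ⟨by norm_num⟩
  orderOf_eq_prime (cube e_w3) W_ne

theorem hA : A ^ 3 = 1 := by
  have h : A = MulAut.conj G W := by rw [MulAut.conj_apply, GWG]
  rw [h, ← map_pow, cube e_w3, map_one]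

/-- **the extraspecial group `3 ^ (1 + 4)`** -/
theorem ext : Ext 3 W A B C₁ D where
  hw := hW
  ha := hA
  hb := cube e_b3
  hc := cube e_c3
  hd := cube e_d3
  wa := e_wa
  wb := e_wb
  wc := e_wc
  wd := e_wd
  ab := e_ab
  cd := e_cd
  ac := e_ac
  ad := e_ad
  bc := e_bc
  bd := e_bd

theorem conj_Q {g : Cfsg.Spor.HN} {a b c d : Cfsg.Spor.HN} (ha : a ∈ ext.Q) (hb : b ∈ ext.Q) (hc : c ∈ ext.Q)
    (hd : d ∈ ext.Q) (h1 : g * A = a * g) (h2 : g * B = b * g) (h3 : g * C₁ = c * g) (h4 : g * D = d * g)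
    (h5 : g * W = W * g) : ∀ x ∈ ext.Q, g * x * g⁻¹ ∈ ext.Q := by
  refine ext.conj_mem ?_ ?_ ?_ ?_ ?_
  · rw [conj_of h1]; exact ha
  · rw [conj_of h2]; exact hb
  · rw [conj_of h3]; exact hc
  · rw [conj_of h4]; exact hd
  · rw [conj_of h5]; exact ext.w_mem

theorem FW : F * W = W * F := by
  have h1 : W = G * A * G⁻¹ := GAG.symm
  have h2 : F = G * D * G⁻¹ := by rw [G_inv, F_eq]
  calc F * W = G * (D * A) * G⁻¹ := by rw [h2, h1]; group
    _ = G * (A * D) * G⁻¹ := by rw [e_ad]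
    _ = (G * A * G⁻¹) * (G * D * G⁻¹) := by group
    _ = W * F := by rw [← h1, ← h2]

theorem F_Q : ∀ x ∈ ext.Q, F * x * F⁻¹ ∈ ext.Q :=
  conj_Q (ext.nf_mem _ _ _ _ _) (ext.nf_mem _ _ _ _ _) (ext.nf_mem _ _ _ _ _) (ext.nf_mem _ _ _ _ _)
    e_fa e_fb e_fc e_fd FW

theorem k_Q : ∀ x ∈ ext.Q, k * x * k⁻¹ ∈ ext.Q :=
  conj_Q (by rw [y1_eq]; exact ext.nf_mem _ _ _ _ _) (ext.nf_mem _ _ _ _ _) (ext.nf_mem _ _ _ _ _)
    (ext.nf_mem _ _ _ _ _) e_kx1 e_kb e_kc e_kd e_kw

theorem k_pow_Q (n : ℕ) : ∀ x ∈ ext.Q, k ^ n * x * (k ^ n)⁻¹ ∈ ext.Q := by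
  induction n with
  | zero => intro x hx; simpa using hx
  | succ n ih =>
    intro x hx
    have h1 := ih _ (k_Q x hx)
    have h2 : k ^ n * (k * x * k⁻¹) * (k ^ n)⁻¹ = k ^ (n + 1) * x * (k ^ (n + 1))⁻¹ := by
      rw [pow_succ]; group
    rwa [h2] at h1

theorem k_pow_W (n : ℕ) : k ^ n * W = W * k ^ n := ((show Commute k W from e_kw).pow_left n).eq

theorem A_not : A ∉ zpowers W := by
  intro h
  obtain ⟨n, hn⟩ := mem_zpowers_iff.1 h
  have h1 : A * B = B * A := by
    rw [← hn]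
    exact ((show Commute W B from e_wb).zpow_left n).eq
  have h2 := e_ab
  rw [h1] at h2
  exact W_ne (mul_eq_left.1 h2.symm)

theorem hirr : ∀ x ∈ ext.Q, (∀ t : Cfsg.Spor.HN, t * W = W * t → (∀ a ∈ ext.Q, t * a * t⁻¹ ∈ ext.Q) →
    x * (t * (G * W * G⁻¹) * t⁻¹) = t * (G * W * G⁻¹) * t⁻¹ * x) → x ∈ zpowers W := by
  rintro _ ⟨i, j, u, l, m, rfl⟩ h
  rw [GWG] at h
  have h0 := h (k ^ 0) (k_pow_W 0) (k_pow_Q 0)
  have h1 := h (k ^ 1) (k_pow_W 1) (k_pow_Q 1)
  have h2 := h (k ^ 2) (k_pow_W 2) (k_pow_Q 2)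
  have h3 := h (k ^ 3) (k_pow_W 3) (k_pow_Q 3)
  have e1 : k ^ 1 * A * (k ^ 1)⁻¹ = Y₁ := by rw [pow_one]; exact conj_of e_kx1
  have e2 : k ^ 2 * A * (k ^ 2)⁻¹ = Y₂ := by
    calc k ^ 2 * A * (k ^ 2)⁻¹ = k * (k ^ 1 * A * (k ^ 1)⁻¹) * k⁻¹ := by group
      _ = Y₂ := by rw [e1]; exact conj_of e_kx2
  have e3 : k ^ 3 * A * (k ^ 3)⁻¹ = Y₃ := by
    calc k ^ 3 * A * (k ^ 3)⁻¹ = k * (k ^ 2 * A * (k ^ 2)⁻¹) * k⁻¹ := by group
      _ = Y₃ := by rw [e2]; exact conj_of e_kx3
  have e0 : k ^ 0 * A * (k ^ 0)⁻¹ = nf W A B C₁ D 1 0 0 0 0 := by simp [nf]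
  rw [e0, ext.comm_iff] at h0
  rw [e1, y1_eq, ext.comm_iff] at h1
  rw [e2, y2_eq, ext.comm_iff] at h2
  rw [e3, y3_eq, ext.comm_iff] at h3
  push_cast at h0 h1 h2 h3
  refine ext.nf_mem_zpowers ?_ ?_ ?_ ?_ <;> push_cast <;> omega

theorem np_three : NP 3 Cfsg.Spor.HN := by
  have : Finite Cfsg.Spor.HN := Nat.finite_of_card_ne_zero (by rw [Cfsg.Agent.KFacts.HN.Classes.card_HN]; norm_num)
  refine Center.np_of_ext (by norm_num) (by norm_num) ext (g := G) GAG ?_ ?_ ?_ ?_ hirr ?_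
  · rw [GWG]; exact ext.a_mem
  · rw [GWG]; exact A_not
  · rw [G_inv, e_gc]; exact mul_mem ext.c_mem ext.c_mem
  · rw [G_inv, ← F_eq]; exact F_Q
  · rw [Cfsg.Agent.KFacts.HN.Classes.card_HN]
    norm_num

end Cfsg.Agent.H235.AA.HN3

namespace Cfsg.Agent.H235.AA.HN

open Subgroup Cfsg.Agent.H839.Rad Cfsg.Agent.H839.Rad.Ext Cfsg.Agent.H235.AA.Tools Cfsg.Agent.H460.AA

theorem np_five : NP 5 Cfsg.Spor.HN := by
  have : Finite Cfsg.Spor.HN := Nat.finite_of_card_ne_zero (by rw [Cfsg.Agent.KFacts.HN.Classes.card_HN]; norm_num)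
  refine Center.np_of_ext (by norm_num) (by norm_num) Cfsg.Agent.H839.Rad.HN.ext (g := Cfsg.Agent.H839.Rad.HN.G)
    ?_ ?_ Cfsg.Agent.H839.Rad.HN.W₁_not ?_ ?_ Cfsg.Agent.H839.Rad.HN.hirr ?_
  · rw [Cfsg.Agent.H839.Rad.HN.A_eq]; group
  · rw [← Cfsg.Agent.H839.Rad.HN.W₁_eq, Cfsg.Agent.H839.Rad.HN.e_w1]
    exact Cfsg.Agent.H839.Rad.HN.ext.nf_mem _ _ _ _ _
  · rw [← Cfsg.Agent.H839.Rad.HN.Gi_eq, Cfsg.Agent.H839.Rad.HN.e_ga2]
    exact Cfsg.Agent.H839.Rad.HN.ext.nf_mem _ _ _ _ _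
  · rw [← Cfsg.Agent.H839.Rad.HN.F_eq]
    exact Cfsg.Agent.H839.Rad.HN.F_Q
  · rw [Cfsg.Agent.KFacts.HN.Classes.card_HN]
    norm_num

theorem core {K : Type*} [Group K] [Finite K] (h : Cfsg.Spor.IsoHN K) : Core K := by
  obtain ⟨e⟩ := h
  have hfin : Finite Cfsg.Spor.HN := Nat.finite_of_card_ne_zero (by rw [Cfsg.Agent.KFacts.HN.Classes.card_HN]; norm_num)
  refine Core.of_equiv e ?_
  have hs := Cfsg.Agent.S1701.result.1
  refine core_of_card (s := 2 ^ 14 * 3 ^ 6 * 5 ^ 6) (m := 7 * 11 * 19)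
    (by rw [Cfsg.Agent.KFacts.HN.Classes.card_HN]; norm_num) ?_ (by norm_num)
    (fun p hp hp2 x hx => Cfsg.Agent.CpAutHN.Main.autInner p hp.out hp2 x hx) ?_
  · refine squarefree_mul_of (squarefree_mul_of (Irreducible.squarefree (by norm_num : Nat.Prime 7)) ?_ ?_) ?_ ?_
      <;> norm_num
  · intro p hp hp2 hd
    rcases (Nat.Prime.dvd_mul hp).1 hd with h1 | h1
    · rcases (Nat.Prime.dvd_mul hp).1 h1 with h2 | h2
      · exact absurd ((Nat.prime_dvd_prime_iff_eq hp Nat.prime_two).1 (hp.dvd_of_dvd_pow h2)) hp2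
      · rw [(Nat.prime_dvd_prime_iff_eq hp Nat.prime_three).1 (hp.dvd_of_dvd_pow h2)]
        exact HN3.np_three
    · rw [(Nat.prime_dvd_prime_iff_eq hp (by norm_num : Nat.Prime 5)).1 (hp.dvd_of_dvd_pow h1)]
      exact np_five

end Cfsg.Agent.H235.AA.HN
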