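import Cfsg.Agent.H839.Rad.HNMat
import Cfsg.Agent.H235.AA.PackStage
import Cfsg.Agent.H235.AA.HN3Data

/-!
# The extraspecial subgroup `3 ^ (1 + 4)` of the Harada-Norton group: matrices (helper235)

`W = (0 1 2)(3 4 5)(6 7 8)`, `G = (1 3)(2 6)(5 7)(9 10)`, `A = G W G`, `B`, `C₁ = (9 10 11)` in `A12`, `k` of order 5 in `C(W)`,
`D = A B k² C₁² k³`, `F = G D G`; everything is checked in the 133-dimensional representation over the field with 31
elements (`chkA`, `chkB`, `chkC`: three stages, `PackStage`).  The format is the one of helper839's `H839/Rad/HNMat`.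
-/

set_option autoImplicit false
set_option maxRecDepth 100000

namespace Cfsg.Agent.H235.AA.HN3

open Cfsg.Agent.Lib.PackMat Cfsg.Agent.Lib.PackMatGroup Cfsg.Agent.Lib.PackMatMul Cfsg.Agent.HN.RepData
open Cfsg.Agent.HN.Rep (LG gens rho)
open Cfsg.Agent.HN.A12 (ws results)
open Cfsg.Agent.HN.A12Step (L20)
open Cfsg.Agent.HN
open Cfsg.Agent.H839.Rad.HN (evF runG_getD runG_step)
open Cfsg.Agent.HN.A12Data Cfsg.Agent.H235.AA.HN3Data Cfsg.Agent.H235.AA.Stage

/-- the straight line program, starting with the 28 elements `runG ws LG` of `A12` -/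
def prog : List (ℕ × List ℕ) := [
  (20, [21]),
  (9, [9]),
  (9, [9]),
  (1, [12, 0, 11]),
  (9, [9]),
  (9, [9]),
  (1, [12, 0, 11]),
  (9, [9]),
  (9, [9]),
  (1, [12, 0, 11]),
  (6, [3, 0]),
  (4, [4, 1]),
  (12, []),
  (19, [19]),
  (17, [17]),
  (15, [15]),
  (2, [24, 1, 23, 1, 22, 8, 20, 8, 0]),
  (2, [23, 9, 22, 8, 21, 9, 20, 8, 19, 8]),
  (15, [27, 2, 26, 2, 25, 3, 24, 3, 23, 9, 22, 20, 19]),
  (13, [24, 10, 21, 20]),
  (3, [9, 3]),
  (3, [41, 47, 43, 3, 44, 48, 42]),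
  (45, [49, 43, 0, 0, 2]),
  (0, [0, 0]),
  (5, [0, 5]),
  (0, [0]),
  (0, [1]),
  (6, [15, 1, 14, 0]),
  (11, [0, 11]),
  (8, [8]),
  (18, [18]),
  (18, [18]),
  (4, [4]),
  (22, [22]),
  (17, [17]),
  (1, [24]),
  (5, [24]),
  (5, [24]),
  (5, [10]),
  (18, [27]),
  (28, [19, 29]),
  (28, [13]),
  (14, [29, 31]),
  (22, [30]),
  (31, [23]),
  (24, [17]),
  (18, [25]),
  (35, [34]),
  (35, [36]),
  (37, [21]),
  (22, [38]),
  (40, [30]),
  (31, [41]),
  (42, [41]),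
  (42, [43]),
  (44, [42]),
  (43, [45]),
  (46, [29]),
  (30, [47]),
  (42, [46, 42]),
  (31, [39]),
  (40, [32]),
  (33, [50]),
  (51, [50, 30, 52, 34]),
  (35, [51]),
  (44, [52, 36]),
  (37, [38]),
  (46, [39, 33, 38]),
  (43, [57]),
  (58, [44]),
  (45, [58]),
  (40, [39, 43, 46]),
  (47, [59]),
  (43, [41, 48]),
  (49, [46]),
  (62, [42, 50]),
  (46, [64, 63, 43]),
  (52, [56]),
  (1, [53]),
  (67, [47]),
  (55, [3]),
  (1, [56]),
  (61, [51, 54]),
  (58, [3]),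
  (1, [59])]

/-- the equalities -/
def es : List (ℕ × ℕ) := [(50, 84), (49, 84), (48, 84), (47, 84), (46, 84), (45, 44), (43, 42), (41, 40), (39, 38),
  (37, 36), (35, 34), (33, 32), (31, 30), (29, 28), (27, 26), (25, 53), (24, 23), (22, 21),
  (20, 19), (18, 17), (16, 15), (14, 13), (12, 11), (10, 9), (7, 6), (4, 3), (1, 0)]

/-- the inequality -/
def ns : List (ℕ × ℕ) := [(74, 84)]

/-- steps 0 to 19 -/
def pA : List (ℕ × List ℕ) := [
  (20, [21]), (9, [9]), (9, [9]), (1, [12, 0, 11]), (9, [9]), (9, [9]), (1, [12, 0, 11]), (9, [9]), (9, [9]),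
  (1, [12, 0, 11]), (6, [3, 0]), (4, [4, 1]), (12, []), (19, [19]), (17, [17]), (15, [15]),
  (2, [24, 1, 23, 1, 22, 8, 20, 8, 0]), (2, [23, 9, 22, 8, 21, 9, 20, 8, 19, 8]),
  (15, [27, 2, 26, 2, 25, 3, 24, 3, 23, 9, 22, 20, 19]), (13, [24, 10, 21, 20])]

/-- equalities of stage A -/
def eA : List (ℕ × ℕ) := []

/-- inequalities of stage A -/
def nA : List (ℕ × ℕ) := [(9, 19)]

/-- the results needed after stage A -/
def NA : List ℕ := [
  E19, E18, E17, E16, 0, 0, 0, E12, E11, E10, 0, 0, 0, 0, 0, 0, 0, 0, 0, E0, 0, 0, 0, 0, 0, 0, 0, 0, 0, 0, 0,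
  0, 0, 0, 0, 0, 0, 0, 0, 0, X, XI, Y, YI, 0, 0, T, TI]

/-- steps 20 to 59 -/
def pB : List (ℕ × List ℕ) := [
  (3, [9, 3]), (3, [41, 47, 43, 3, 44, 48, 42]), (45, [49, 43, 0, 0, 2]), (0, [0, 0]), (5, [0, 5]), (0, [0]),
  (0, [1]), (6, [15, 1, 14, 0]), (11, [0, 11]), (8, [8]), (18, [18]), (18, [18]), (4, [4]), (22, [22]),
  (17, [17]), (1, [24]), (5, [24]), (5, [24]), (5, [10]), (18, [27]), (28, [19, 29]), (28, [13]),
  (14, [29, 31]), (22, [30]), (31, [23]), (24, [17]), (18, [25]), (35, [34]), (35, [36]), (37, [21]),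
  (22, [38]), (40, [30]), (31, [41]), (42, [41]), (42, [43]), (44, [42]), (43, [45]), (46, [29]), (30, [47]),
  (42, [46, 42])]

/-- equalities of stage B -/
def eB : List (ℕ × ℕ) := [(25, 59), (24, 59), (23, 59), (22, 59), (21, 59), (20, 19), (18, 17), (16, 15), (14, 13), (12, 11), (10, 9),
(8, 7), (6, 5), (4, 3), (2, 1), (0, 28)]

/-- inequalities of stage B -/
def nB : List (ℕ × ℕ) := []

/-- the results needed after stage B -/
def NB : List ℕ := [
  0, 0, 0, 0, 0, 0, 0, 0, 0, 0, 0, 0, 0, 0, 0, 0, 0, 0, 0, 0, 0, 0, 0, 0, 0, 0, E33, E32, E31, E30, E29, E28,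
  E27, 0, 0, E24, 0, 0, 0, E20, 0, 0, 0, 0, 0, 0, 0, E12, E11, E10, 0, 0, 0, 0, 0, 0, 0, 0, 0, 0, 0, 0, 0, 0,
  0, 0, 0, 0, 0, 0, 0, 0, 0, 0, 0, 0, 0, 0, 0, 0, 0, 0, 0, 0, 0, 0, 0, 0]

/-- steps 60 to 84 -/
def pC : List (ℕ × List ℕ) := [
  (31, [39]), (40, [32]), (33, [50]), (51, [50, 30, 52, 34]), (35, [51]), (44, [52, 36]), (37, [38]),
  (46, [39, 33, 38]), (43, [57]), (58, [44]), (45, [58]), (40, [39, 43, 46]), (47, [59]), (43, [41, 48]),
  (49, [46]), (62, [42, 50]), (46, [64, 63, 43]), (52, [56]), (1, [53]), (67, [47]), (55, [3]), (1, [56]),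
  (61, [51, 54]), (58, [3]), (1, [59])]

/-- equalities of stage C -/
def eC : List (ℕ × ℕ) := [(24, 23), (22, 21), (20, 19), (18, 17), (16, 15), (14, 13), (12, 11), (10, 9), (7, 6), (4, 3), (1, 0)]

/-- inequalities of stage C -/
def nC : List (ℕ × ℕ) := []

theorem chkA : stage C pA eA nA L20 NA = true := by decide +kernel

theorem chkB : stage C pB eB nB NA NB = true := by decide +kernel

theorem chkC : stage C pC eC nC NB [] = true := by decide +kernel

theorem prog_eq : prog = pA ++ (pB ++ pC) := rfl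

theorem stA : (∀ q ∈ eA, (runG pA (runG ws LG)).getD q.1 1 = (runG pA (runG ws LG)).getD q.2 1) ∧
    (∀ q ∈ nA, (runG pA (runG ws LG)).getD q.1 1 ≠ (runG pA (runG ws LG)).getD q.2 1) ∧
    List.Forall₂ (CodesD C) (runG pA (runG ws LG)) NA := by
  have h := stage_sound (good_of_check Rep.good) (results.imp fun _ _ h => ofR h) chkA (by decide)
  exact ⟨h.1, h.2.1, h.2.2 rfl⟩

theorem stB : (∀ q ∈ eB, (runG pB (runG pA (runG ws LG))).getD q.1 1 = (runG pB (runG pA (runG ws LG))).getD q.2 1) ∧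
    List.Forall₂ (CodesD C) (runG pB (runG pA (runG ws LG))) NB := by
  have h := stage_sound (good_of_check Rep.good) stA.2.2 chkB (by decide)
  exact ⟨h.1, h.2.2 rfl⟩

theorem stC : ∀ q ∈ eC, (runG pC (runG pB (runG pA (runG ws LG)))).getD q.1 1 =
    (runG pC (runG pB (runG pA (runG ws LG)))).getD q.2 1 :=
  (stage_sound (good_of_check Rep.good) stB.2 chkC (by decide)).1

theorem res_eq : runG prog (runG ws LG) = runG pC (runG pB (runG pA (runG ws LG))) := by
  rw [prog_eq, runG_append, runG_append]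

theorem getA (m : ℕ) : (runG prog (runG ws LG)).getD (65 + m) 1 = (runG pA (runG ws LG)).getD m 1 := by
  have e : 65 + m = pC.length + (pB.length + m) := by
    change 65 + m = 25 + (40 + m)
    omega
  rw [res_eq, e, runG_getD, runG_getD]

theorem getB (m : ℕ) : (runG prog (runG ws LG)).getD (25 + m) 1 = (runG pB (runG pA (runG ws LG))).getD m 1 := by
  have e : 25 + m = pC.length + m := rfl
  rw [res_eq, e, runG_getD]

theorem sound : (∀ q ∈ es, (runG prog (runG ws LG)).getD q.1 1 = (runG prog (runG ws LG)).getD q.2 1) ∧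
    (∀ q ∈ ns, (runG prog (runG ws LG)).getD q.1 1 ≠ (runG prog (runG ws LG)).getD q.2 1) := by
  have k1 : ∀ q ∈ es, (∃ r ∈ eB, q = (25 + r.1, 25 + r.2)) ∨ q ∈ eC := by decide
  have k2 : ∀ q ∈ ns, ∃ r ∈ nA, q = (65 + r.1, 65 + r.2) := by decide
  refine ⟨fun q hq => ?_, fun q hq => ?_⟩
  · rcases k1 q hq with ⟨r, hr, rfl⟩ | hr
    · rw [getB, getB]
      exact stB.1 r hr
    · rw [res_eq]
      exact stC q hr
  · obtain ⟨r, hr, rfl⟩ := k2 q hq
    rw [getA, getA]
    exact stA.2.1 r hr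

/-- the results in the presented group -/
noncomputable def R (i : ℕ) : Cfsg.Spor.HN := (runG prog (runG ws gens)).getD i 1

theorem rho_R (i : ℕ) : rho (R i) = (runG prog (runG ws LG)).getD i 1 := by
  unfold R
  rw [← Rep.gens_map, runG_map, runG_map, List.getD_eq_getElem?_getD, List.getD_eq_getElem?_getD, List.getElem?_map]
  cases (runG prog (runG ws gens))[i]? with
  | none => simp
  | some b => simp

theorem eqR {i j : ℕ} (h : (i, j) ∈ es) : R i = R j := by
  have := Cfsg.Agent.S1701.result.1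
  apply A12Group.rho_injective
  rw [rho_R, rho_R]
  exact sound.1 (i, j) h

theorem neR {i j : ℕ} (h : (i, j) ∈ ns) : R i ≠ R j := by
  intro h1
  refine sound.2 (i, j) h ?_
  rw [← rho_R, ← rho_R, h1]

theorem stepR {i : ℕ} {w : List ℕ} (hi : i < prog.length)
    (hw : ((prog.reverse.getD i (0, [])).1 :: (prog.reverse.getD i (0, [])).2) = w) :
    R i = evF (fun m => R (i + 1 + m)) w := by
  rw [← hw]
  exact runG_step prog (runG ws gens) i hi

theorem genR (m : ℕ) : R (prog.length + (ws.length + m)) = gens.getD m 1 :=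
  (runG_getD prog (runG ws gens) _).trans (runG_getD ws gens m)

end Cfsg.Agent.H235.AA.HN3
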