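import Cfsg.Agent.H235.AA.Tools
import Cfsg.Agent.H478.RadHeis

/-!
# Representatives of the elements of order `p` for the `AA` problem (helper235)

* `heis_reps` : Sylow subgroup `⟨a, b⟩` extraspecial of order `p ^ 3`;
* `abel_reps` : Sylow subgroup `⟨a, b⟩` elementary abelian of order `p ^ 2`;
* `not_pc` : the certificate.
-/

set_option autoImplicit false

namespace Cfsg.Agent.H235.AA.Reps

open Subgroup Cfsg Cfsg.Agent.H460.AA Cfsg.Agent.H235.AA.Tools
open Cfsg.Agent.H859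
open Cfsg.Agent.H478.RadHeis (exists_conj_mem)

variable {K : Type*} [Group K] {p : ℕ}

/-- **certificate**: `y = x (g x g⁻¹) ≠ 1` has order prime to `p` -/
theorem not_pc {x g : K} {n : ℕ} (h : (x * (g * x * g⁻¹)) ^ n = 1) (h1 : x * (g * x * g⁻¹) ≠ 1)
    (hn : Nat.Coprime p n) : ¬ PC p x := by
  intro hx
  obtain ⟨k, hk⟩ := hx g
  apply h1
  rw [← orderOf_eq_one_iff]
  have h2 := orderOf_dvd_of_pow_eq_one h
  rw [hk] at h2
  rw [hk]
  exact Nat.Coprime.eq_one_of_dvd (Nat.Coprime.pow_left k hn) h2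

theorem PC_conj_iff {x : K} (c : K) : PC p (c * x * c⁻¹) ↔ PC p x := by
  refine ⟨fun h => ?_, fun h => h.conj c⟩
  have h1 := h.conj c⁻¹
  have h2 : c⁻¹ * (c * x * c⁻¹) * c⁻¹⁻¹ = x := by group
  rwa [h2] at h1

theorem exists_mul [hp : Fact p.Prime] {i : ℕ} (hi : ¬ p ∣ i) (k : ℕ) : ∃ m : ℕ, m * i ≡ k [MOD p] := by
  have h0 : (i : ZMod p) ≠ 0 := by rwa [Ne, ZMod.natCast_eq_zero_iff]
  refine ⟨((k : ZMod p) * (i : ZMod p)⁻¹).val, ?_⟩
  rw [← ZMod.natCast_eq_natCast_iff]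
  push_cast
  rw [ZMod.natCast_zmod_val, mul_assoc, inv_mul_cancel₀ h0, mul_one]

section Heis

variable [hp : Fact p.Prime] {a b w : K} (h : Heis.Rel p a b w)
include h

omit hp in
theorem conj_b (i j m : ℕ) : b ^ m * (a ^ i * b ^ j) * (b ^ m)⁻¹ = a ^ i * b ^ j * w ^ (m * i) := by
  have c1 : Commute (w ^ (m * i)) (b ^ j) := (show Commute w b from h.bw.symm).pow_pow _ _
  have c2 : Commute (b ^ m) (b ^ j) := Commute.pow_pow (Commute.refl b) m j
  have c3 : Commute (b ^ m) (w ^ (m * i)) := (show Commute b w from h.bw).pow_pow _ _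
  rw [mul_inv_eq_iff_eq_mul]
  calc b ^ m * (a ^ i * b ^ j) = (b ^ m * a ^ i) * b ^ j := by group
    _ = a ^ i * b ^ m * (w ^ (m * i) * b ^ j) := by rw [h.ba2]; group
    _ = a ^ i * (b ^ m * b ^ j) * w ^ (m * i) := by rw [c1.eq]; group
    _ = a ^ i * b ^ j * (b ^ m * w ^ (m * i)) := by rw [c2.eq]; group
    _ = _ := by rw [c3.eq]; group

omit hp in
theorem conj_a (j m : ℕ) : (a ^ m)⁻¹ * b ^ j * a ^ m = b ^ j * w ^ (j * m) := by
  have := h.ba2 j m
  rw [mul_assoc, this]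
  group

theorem PC_form {i j k : ℕ} (hij : ¬ (p ∣ i ∧ p ∣ j)) : PC p (a ^ i * b ^ j * w ^ k) ↔ PC p (a ^ i * b ^ j) := by
  by_cases hi : p ∣ i
  · have hj : ¬ p ∣ j := fun hj => hij ⟨hi, hj⟩
    have ha : a ^ i = 1 := Heis.pow_eq_one_of h.ap hi
    rw [ha, one_mul]
    obtain ⟨m, hm⟩ := exists_mul hj k
    have h1 := conj_a h j m
    rw [pow_eq_pow_of_modEq (show j * m ≡ k [MOD p] by rw [mul_comm]; exact hm) h.wp] at h1
    rw [← h1]
    have h2 := PC_conj_iff (p := p) (x := b ^ j) (a ^ m)⁻¹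
    rwa [inv_inv] at h2
  · obtain ⟨m, hm⟩ := exists_mul hi k
    have h1 := conj_b h i j m
    rw [pow_eq_pow_of_modEq hm h.wp] at h1
    rw [← h1]
    exact PC_conj_iff _

theorem pc_inv_form (i j : ℕ) (hi : i ≤ p) (hj : j ≤ p) (hij : ¬ (p ∣ i ∧ p ∣ j)) :
    PC p (a ^ i * b ^ j) ↔ PC p (a ^ (p - i) * b ^ (p - j)) := by
  rw [← PC.of_iff]
  have h1 : (a ^ i * b ^ j)⁻¹ = a ^ (p - i) * b ^ (p - j) * w ^ ((p - j) * (p - i)) := by
    have ea : (a ^ i)⁻¹ = a ^ (p - i) := by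
      rw [inv_eq_iff_mul_eq_one, ← pow_add, Nat.add_sub_cancel' hi, h.ap]
    have eb : (b ^ j)⁻¹ = b ^ (p - j) := by
      rw [inv_eq_iff_mul_eq_one, ← pow_add, Nat.add_sub_cancel' hj, h.bp]
    rw [mul_inv_rev, ea, eb, h.ba2]
  rw [h1]
  refine PC_form h fun ⟨h2, h3⟩ => hij ⟨?_, ?_⟩
  · have := (Nat.dvd_sub_iff_right hi (dvd_refl p)).1 h2
    exact this
  · exact (Nat.dvd_sub_iff_right hj (dvd_refl p)).1 h3

/-- **Sylow subgroup extraspecial of order `p ^ 3`** -/
theorem heis_reps [Finite K] (hp2 : p ≠ 2) (hc : ¬ p ^ 4 ∣ Nat.card K)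
    (hw : ∀ k, 1 ≤ k → 2 * k < p → ¬ PC p (w ^ k))
    (hb : ∀ j, 1 ≤ j → 2 * j < p → ¬ PC p (b ^ j))
    (hab : ∀ i j, 1 ≤ i → 2 * i < p → j < p → ¬ PC p (a ^ i * b ^ j))
    {x : K} (hx : orderOf x = p) : ¬ PC p x := by
  intro hP
  have hpo : ∀ k, 2 * k ≠ p := fun k hk => by
    rcases hp.out.eq_two_or_odd with h2 | h2
    · exact hp2 h2
    · omega
  have hi : ¬ p ∣ (Heis.gp h).index := by
    intro h1
    apply hc
    rw [← (Heis.gp h).card_mul_index, Heis.card h, pow_succ]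
    exact mul_dvd_mul_left _ h1
  obtain ⟨g, hg⟩ := exists_conj_mem (Heis.isPGroup h) hi (g := x) (by rw [← hx]; exact pow_orderOf_eq_one x)
  have hP' := hP.conj g
  have ho : orderOf (g * x * g⁻¹) = p := by rw [← MulAut.conj_apply, MulEquiv.orderOf_eq, hx]
  obtain ⟨i, j, k, he⟩ := hg
  rw [Heis.pow_red h.ap, Heis.pow_red h.bp, Heis.pow_red h.wp] at he
  have hpos := hp.out.pos
  have hi' := Nat.mod_lt i hpos
  have hj' := Nat.mod_lt j hpos
  have hk' := Nat.mod_lt k hpos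
  generalize i % p = i at he hi'
  generalize j % p = j at he hj'
  generalize k % p = k at he hk'
  rw [he] at hP' ho
  have key : ∀ j, 1 ≤ j → j < p → ¬ PC p (b ^ j) := by
    intro j h1 h2 h3
    rcases lt_or_ge (2 * j) p with h4 | h4
    · exact hb j h1 h4 h3
    · have h5 : (b ^ j)⁻¹ = b ^ (p - j) := by
        rw [inv_eq_iff_mul_eq_one, ← pow_add, Nat.add_sub_cancel' h2.le, h.bp]
      have h6 := h3.inv
      rw [h5] at h6
      have := hpo j
      exact hb (p - j) (by omega) (by omega) h6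
  by_cases hi0 : i = 0
  · subst hi0
    rw [pow_zero, one_mul] at hP' ho
    by_cases hj0 : j = 0
    · subst hj0
      rw [pow_zero, one_mul] at hP' ho
      have hk0 : k ≠ 0 := by
        rintro rfl
        rw [pow_zero, orderOf_one] at ho
        exact hp.out.one_lt.ne ho
      rcases lt_or_ge (2 * k) p with h4 | h4
      · exact hw k (by omega) h4 hP'
      · have h5 : (w ^ k)⁻¹ = w ^ (p - k) := by
          rw [inv_eq_iff_mul_eq_one, ← pow_add, Nat.add_sub_cancel' hk'.le, h.wp]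
        have h6 := hP'.inv
        rw [h5] at h6
        have := hpo k
        exact hw (p - k) (by omega) (by omega) h6
    · have h1 : PC p (a ^ 0 * b ^ j * w ^ k) := by rw [pow_zero, one_mul]; exact hP'
      rw [PC_form h (fun ⟨_, h2⟩ => hj0 (Nat.eq_zero_of_dvd_of_lt h2 hj')), pow_zero, one_mul] at h1
      exact key j (by omega) hj' h1
  · have hin : ¬ (p ∣ i ∧ p ∣ j) := fun ⟨h2, _⟩ => hi0 (Nat.eq_zero_of_dvd_of_lt h2 hi')
    rw [PC_form h hin] at hP'
    rcases lt_or_ge (2 * i) p with h4 | h4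
    · exact hab i j (by omega) h4 hj' hP'
    · have := hpo i
      rw [pc_inv_form h i j hi'.le hj'.le hin] at hP'
      by_cases hj0 : j = 0
      · subst hj0
        rw [Nat.sub_zero, h.bp] at hP'
        have h5 := hab (p - i) 0 (by omega) (by omega) hpos
        rw [pow_zero] at h5
        exact h5 hP'
      · exact hab (p - i) (p - j) (by omega) (by omega) (by omega) hP'

end Heis

/-- **Sylow subgroup elementary abelian of order `p ^ 2`** -/
theorem abel_reps [Finite K] [hp : Fact p.Prime] {a b : K} (hba : b * a = a * b) (ha : a ^ p = 1) (hb : b ^ p = 1)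
    (ha1 : a ≠ 1) (hne : b ∉ zpowers a) (hp2 : p ≠ 2) (hc : ¬ p ^ 3 ∣ Nat.card K)
    (hbj : ∀ j, 1 ≤ j → 2 * j < p → ¬ PC p (b ^ j))
    (hab : ∀ i j, 1 ≤ i → 2 * i < p → j < p → ¬ PC p (a ^ i * b ^ j))
    {x : K} (hx : orderOf x = p) : ¬ PC p x := by
  intro hP
  have cab : Commute a b := hba.symm
  have hpos := hp.out.pos
  have hpo : ∀ k, 2 * k ≠ p := fun k hk => by
    rcases hp.out.eq_two_or_odd with h2 | h2
    · exact hp2 h2
    · omega
  let Q : Subgroup K :=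
    { carrier := {g | ∃ i j : ℕ, g = a ^ i * b ^ j}
      one_mem' := ⟨0, 0, by simp⟩
      mul_mem' := by
        rintro _ _ ⟨i, j, rfl⟩ ⟨i', j', rfl⟩
        refine ⟨i + i', j + j', ?_⟩
        have c : Commute (b ^ j) (a ^ i') := cab.symm.pow_pow _ _
        calc a ^ i * b ^ j * (a ^ i' * b ^ j') = a ^ i * (b ^ j * a ^ i') * b ^ j' := by group
          _ = a ^ i * a ^ i' * (b ^ j * b ^ j') := by rw [c.eq]; group
          _ = _ := by rw [← pow_add, ← pow_add]
      inv_mem' := by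
        rintro _ ⟨i, j, rfl⟩
        obtain ⟨q, hq⟩ : ∃ q, p = q + 1 := ⟨p - 1, by omega⟩
        refine ⟨q * i, q * j, ?_⟩
        rw [inv_eq_iff_mul_eq_one]
        have c : Commute (b ^ j) (a ^ (q * i)) := cab.symm.pow_pow _ _
        calc a ^ i * b ^ j * (a ^ (q * i) * b ^ (q * j)) = a ^ i * (b ^ j * a ^ (q * i)) * b ^ (q * j) := by group
          _ = a ^ i * a ^ (q * i) * (b ^ j * b ^ (q * j)) := by rw [c.eq]; group
          _ = 1 := by
            rw [← pow_add, ← pow_add, Heis.pow_eq_one_of ha ⟨i, by rw [hq]; ring⟩,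
              Heis.pow_eq_one_of hb ⟨j, by rw [hq]; ring⟩, one_mul] }
  have hmem : ∀ g : K, g ∈ Q ↔ ∃ i j : ℕ, g = a ^ i * b ^ j := fun g => Iff.rfl
  have hQ : IsPGroup p Q := by
    rintro ⟨g, i, j, rfl⟩
    refine ⟨1, Subtype.ext ?_⟩
    change (a ^ i * b ^ j) ^ p ^ 1 = 1
    rw [pow_one, (cab.pow_pow i j).mul_pow, ← pow_mul, ← pow_mul, Heis.pow_eq_one_of ha ⟨i, by ring⟩,
      Heis.pow_eq_one_of hb ⟨j, by ring⟩, one_mul]
  have haQ : a ∈ Q := ⟨1, 0, by simp⟩
  have hbQ : b ∈ Q := ⟨0, 1, by simp⟩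
  have hi : ¬ p ∣ Q.index := by
    intro h1
    apply hc
    obtain ⟨n, hn⟩ := IsPGroup.iff_card.1 hQ
    have hn2 : 2 ≤ n := by
      by_contra h3
      have hoa : orderOf a = p := orderOf_eq_prime ha ha1
      have h4 : zpowers a = Q := by
        refine Subgroup.eq_of_le_of_card_ge (by rwa [zpowers_le]) ?_
        rw [Nat.card_zpowers, hoa, hn]
        calc p ^ n ≤ p ^ 1 := Nat.pow_le_pow_right hpos (by omega)
          _ = p := pow_one p
      exact hne (h4 ▸ hbQ)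
    rw [← Q.card_mul_index, hn]
    calc p ^ 3 = p ^ 2 * p := by ring
      _ ∣ p ^ n * Q.index := mul_dvd_mul (pow_dvd_pow p hn2) h1
  obtain ⟨g, hg⟩ := exists_conj_mem hQ hi (g := x) (by rw [← hx]; exact pow_orderOf_eq_one x)
  have hP' := hP.conj g
  have ho : orderOf (g * x * g⁻¹) = p := by rw [← MulAut.conj_apply, MulEquiv.orderOf_eq, hx]
  obtain ⟨i, j, he⟩ := hg
  rw [Heis.pow_red ha, Heis.pow_red hb] at he
  have hi' := Nat.mod_lt i hpos
  have hj' := Nat.mod_lt j hpos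
  generalize i % p = i at he hi'
  generalize j % p = j at he hj'
  rw [he] at hP' ho
  by_cases hi0 : i = 0
  · subst hi0
    rw [pow_zero, one_mul] at hP' ho
    have hj0 : j ≠ 0 := by
      rintro rfl
      rw [pow_zero, orderOf_one] at ho
      exact hp.out.one_lt.ne ho
    rcases lt_or_ge (2 * j) p with h4 | h4
    · exact hbj j (by omega) h4 hP'
    · have h5 : (b ^ j)⁻¹ = b ^ (p - j) := by
        rw [inv_eq_iff_mul_eq_one, ← pow_add, Nat.add_sub_cancel' hj'.le, hb]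
      have h6 := hP'.inv
      rw [h5] at h6
      have := hpo j
      exact hbj (p - j) (by omega) (by omega) h6
  · rcases lt_or_ge (2 * i) p with h4 | h4
    · exact hab i j (by omega) h4 hj' hP'
    · have := hpo i
      have h5 : (a ^ i * b ^ j)⁻¹ = a ^ (p - i) * b ^ (p - j) := by
        rw [inv_eq_iff_mul_eq_one]
        have c : Commute (b ^ j) (a ^ (p - i)) := cab.symm.pow_pow _ _
        calc a ^ i * b ^ j * (a ^ (p - i) * b ^ (p - j)) = a ^ i * (b ^ j * a ^ (p - i)) * b ^ (p - j) := by group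
          _ = a ^ i * a ^ (p - i) * (b ^ j * b ^ (p - j)) := by rw [c.eq]; group
          _ = 1 := by
            rw [← pow_add, ← pow_add, Nat.add_sub_cancel' hi'.le, Nat.add_sub_cancel' hj'.le, ha, hb, one_mul]
      have h6 := hP'.inv
      rw [h5] at h6
      by_cases hj0 : j = 0
      · subst hj0
        rw [Nat.sub_zero, hb] at h6
        have h7 := hab (p - i) 0 (by omega) (by omega) hpos
        rw [pow_zero] at h7
        exact h7 h6
      · exact hab (p - i) (p - j) (by omega) (by omega) (by omega) h6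

end Cfsg.Agent.H235.AA.Reps
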