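import Cfsg.Agent.H587.NR.He
import Cfsg.Agent.H235.AA.Row
import Cfsg.Agent.H235.AA.Reps
import Cfsg.Agent.CpAutHe.Row

/-!
# The `AA` problem for `He` (helper235)

Sylow subgroups by explicit words (helper587's for `p = 5, 7`); for each representative `x` of the elements of order `p`
an element `g` such that `x (g x g⁻¹) ≠ 1` has order prime to `p`.
-/

set_option autoImplicit false
set_option maxRecDepth 100000

namespace Cfsg.Agent.H235.AA.He

open Subgroup Cfsg Cfsg.Agent.H460.AA Cfsg.Agent.H859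
open Cfsg.Spor.He (Gen)
open Cfsg.Agent.SporadicB.HePerm (act wd phi phi_wd_apply)
open Cfsg.Agent.FixBN.HeStab Cfsg.Agent.KFacts.He.Lv Cfsg.Agent.CpAutHe.Cnt
open Cfsg.Agent.H587.NR.He Cfsg.Agent.H235.AA.Tools Cfsg.Agent.H235.AA.Reps

/-- the certificate -/
def certP (p : ℕ) (X g : List Gen) (n : ℕ) : Bool :=
  and (chkB (pw (X ++ (g ++ (X ++ g.reverse))) n) []) (and (Nat.beq (Nat.gcd p n) 1)
    (not (chkB (X ++ (g ++ (X ++ g.reverse))) [])))

theorem not_pc_of_cert {p n : ℕ} {X g : List Gen} (h : certP p X g n = true) : ¬ PC p (wd X) := by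
  unfold certP at h
  simp only [Bool.and_eq_true] at h
  obtain ⟨h1, h2, h3⟩ := h
  have e1 := eq_of_chkB h1
  rw [wd_pw, wd_nil, wd_append, wd_append, wd_append, wd_reverse] at e1
  have e3 : wd (X ++ (g ++ (X ++ g.reverse))) ≠ 1 := by
    rw [← wd_nil]
    refine ne_of_chkB ?_
    simpa using h3
  rw [wd_append, wd_append, wd_append, wd_reverse] at e3
  rw [← mul_assoc (wd g)] at e1 e3
  exact not_pc (g := wd g) e1 e3 (Nat.eq_of_beq_eq_true h2)

/-- first generator of a Sylow 3-subgroup -/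
def A3 : List Gen := [.b, .c, .d, .g, .d, .e, .d, .c, .d, .c, .d, .g, .b, .c, .d, .c, .d, .f, .d, .b, .c, .b, .a]

/-- second generator of a Sylow 3-subgroup -/
def B3 : List Gen := [.d, .e, .c, .d, .c, .d, .c]

/-- the commutator -/
def W3 : List Gen := [.c, .d, .c, .d, .c, .e, .d, .a, .b, .c, .b, .d, .f, .d, .c, .d, .c, .b, .g, .d, .c, .d, .c, .d, .e, .d, .g, .d, .c, .b, .d, .e, .c, .d, .c, .d, .c, .b, .c, .d, .g, .d, .e, .d, .c, .d, .c, .d, .g, .b, .c, .d, .c, .d, .f, .d, .b, .c, .b, .a]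

theorem pc3_w1 : ¬ PC 3 (wd (pw W3 1)) :=
  not_pc_of_cert (g := [.b]) (n := 5) (by decide +kernel)

theorem pc3_b1 : ¬ PC 3 (wd (pw B3 1)) :=
  not_pc_of_cert (g := [.d]) (n := 5) (by decide +kernel)

theorem pc3_1_0 : ¬ PC 3 (wd (pw A3 1 ++ pw B3 0)) :=
  not_pc_of_cert (g := [.a]) (n := 4) (by decide +kernel)

theorem pc3_1_1 : ¬ PC 3 (wd (pw A3 1 ++ pw B3 1)) :=
  not_pc_of_cert (g := [.a]) (n := 7) (by decide +kernel)

theorem pc3_1_2 : ¬ PC 3 (wd (pw A3 1 ++ pw B3 2)) :=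
  not_pc_of_cert (g := [.g]) (n := 4) (by decide +kernel)

theorem pc5_b1 : ¬ PC 5 (wd (pw B5 1)) :=
  not_pc_of_cert (g := [.b]) (n := 17) (by decide +kernel)

theorem pc5_b2 : ¬ PC 5 (wd (pw B5 2)) :=
  not_pc_of_cert (g := [.f]) (n := 2) (by decide +kernel)

theorem pc5_1_0 : ¬ PC 5 (wd (pw A5 1 ++ pw B5 0)) :=
  not_pc_of_cert (g := [.e]) (n := 3) (by decide +kernel)

theorem pc5_1_1 : ¬ PC 5 (wd (pw A5 1 ++ pw B5 1)) :=
  not_pc_of_cert (g := [.f]) (n := 3) (by decide +kernel)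

theorem pc5_1_2 : ¬ PC 5 (wd (pw A5 1 ++ pw B5 2)) :=
  not_pc_of_cert (g := [.f]) (n := 2) (by decide +kernel)

theorem pc5_1_3 : ¬ PC 5 (wd (pw A5 1 ++ pw B5 3)) :=
  not_pc_of_cert (g := [.d]) (n := 3) (by decide +kernel)

theorem pc5_1_4 : ¬ PC 5 (wd (pw A5 1 ++ pw B5 4)) :=
  not_pc_of_cert (g := [.b]) (n := 21) (by decide +kernel)

theorem pc5_2_0 : ¬ PC 5 (wd (pw A5 2 ++ pw B5 0)) :=
  not_pc_of_cert (g := [.b]) (n := 21) (by decide +kernel)

theorem pc5_2_1 : ¬ PC 5 (wd (pw A5 2 ++ pw B5 1)) :=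
  not_pc_of_cert (g := [.f]) (n := 3) (by decide +kernel)

theorem pc5_2_2 : ¬ PC 5 (wd (pw A5 2 ++ pw B5 2)) :=
  not_pc_of_cert (g := [.d]) (n := 3) (by decide +kernel)

theorem pc5_2_3 : ¬ PC 5 (wd (pw A5 2 ++ pw B5 3)) :=
  not_pc_of_cert (g := [.a]) (n := 3) (by decide +kernel)

theorem pc5_2_4 : ¬ PC 5 (wd (pw A5 2 ++ pw B5 4)) :=
  not_pc_of_cert (g := [.b]) (n := 6) (by decide +kernel)

theorem pc7_w1 : ¬ PC 7 (wd (pw W7 1)) :=
  not_pc_of_cert (g := [.d]) (n := 2) (by decide +kernel)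

theorem pc7_w2 : ¬ PC 7 (wd (pw W7 2)) :=
  not_pc_of_cert (g := [.c]) (n := 3) (by decide +kernel)

theorem pc7_w3 : ¬ PC 7 (wd (pw W7 3)) :=
  not_pc_of_cert (g := [.a]) (n := 5) (by decide +kernel)

theorem pc7_b1 : ¬ PC 7 (wd (pw B7 1)) :=
  not_pc_of_cert (g := [.g]) (n := 15) (by decide +kernel)

theorem pc7_b2 : ¬ PC 7 (wd (pw B7 2)) :=
  not_pc_of_cert (g := [.b]) (n := 6) (by decide +kernel)

theorem pc7_b3 : ¬ PC 7 (wd (pw B7 3)) :=
  not_pc_of_cert (g := [.g]) (n := 6) (by decide +kernel)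

theorem pc7_1_0 : ¬ PC 7 (wd (pw A7 1 ++ pw B7 0)) :=
  not_pc_of_cert (g := [.c]) (n := 4) (by decide +kernel)

theorem pc7_1_1 : ¬ PC 7 (wd (pw A7 1 ++ pw B7 1)) :=
  not_pc_of_cert (g := [.b]) (n := 3) (by decide +kernel)

theorem pc7_1_2 : ¬ PC 7 (wd (pw A7 1 ++ pw B7 2)) :=
  not_pc_of_cert (g := [.a]) (n := 17) (by decide +kernel)

theorem pc7_1_3 : ¬ PC 7 (wd (pw A7 1 ++ pw B7 3)) :=
  not_pc_of_cert (g := [.f]) (n := 6) (by decide +kernel)

theorem pc7_1_4 : ¬ PC 7 (wd (pw A7 1 ++ pw B7 4)) :=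
  not_pc_of_cert (g := [.a]) (n := 5) (by decide +kernel)

theorem pc7_1_5 : ¬ PC 7 (wd (pw A7 1 ++ pw B7 5)) :=
  not_pc_of_cert (g := [.b]) (n := 2) (by decide +kernel)

theorem pc7_1_6 : ¬ PC 7 (wd (pw A7 1 ++ pw B7 6)) :=
  not_pc_of_cert (g := [.a]) (n := 6) (by decide +kernel)

theorem pc7_2_0 : ¬ PC 7 (wd (pw A7 2 ++ pw B7 0)) :=
  not_pc_of_cert (g := [.b, .e]) (n := 4) (by decide +kernel)

theorem pc7_2_1 : ¬ PC 7 (wd (pw A7 2 ++ pw B7 1)) :=
  not_pc_of_cert (g := [.f]) (n := 4) (by decide +kernel)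

theorem pc7_2_2 : ¬ PC 7 (wd (pw A7 2 ++ pw B7 2)) :=
  not_pc_of_cert (g := [.b]) (n := 6) (by decide +kernel)

theorem pc7_2_3 : ¬ PC 7 (wd (pw A7 2 ++ pw B7 3)) :=
  not_pc_of_cert (g := [.a]) (n := 5) (by decide +kernel)

theorem pc7_2_4 : ¬ PC 7 (wd (pw A7 2 ++ pw B7 4)) :=
  not_pc_of_cert (g := [.d]) (n := 4) (by decide +kernel)

theorem pc7_2_5 : ¬ PC 7 (wd (pw A7 2 ++ pw B7 5)) :=
  not_pc_of_cert (g := [.a]) (n := 3) (by decide +kernel)

theorem pc7_2_6 : ¬ PC 7 (wd (pw A7 2 ++ pw B7 6)) :=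
  not_pc_of_cert (g := [.f]) (n := 3) (by decide +kernel)

theorem pc7_3_0 : ¬ PC 7 (wd (pw A7 3 ++ pw B7 0)) :=
  not_pc_of_cert (g := [.a]) (n := 4) (by decide +kernel)

theorem pc7_3_1 : ¬ PC 7 (wd (pw A7 3 ++ pw B7 1)) :=
  not_pc_of_cert (g := [.f]) (n := 4) (by decide +kernel)

theorem pc7_3_2 : ¬ PC 7 (wd (pw A7 3 ++ pw B7 2)) :=
  not_pc_of_cert (g := [.a]) (n := 3) (by decide +kernel)

theorem pc7_3_3 : ¬ PC 7 (wd (pw A7 3 ++ pw B7 3)) :=
  not_pc_of_cert (g := [.d]) (n := 3) (by decide +kernel)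

theorem pc7_3_4 : ¬ PC 7 (wd (pw A7 3 ++ pw B7 4)) :=
  not_pc_of_cert (g := [.a]) (n := 3) (by decide +kernel)

theorem pc7_3_5 : ¬ PC 7 (wd (pw A7 3 ++ pw B7 5)) :=
  not_pc_of_cert (g := [.f]) (n := 3) (by decide +kernel)

theorem pc7_3_6 : ¬ PC 7 (wd (pw A7 3 ++ pw B7 6)) :=
  not_pc_of_cert (g := [.a]) (n := 4) (by decide +kernel)

theorem rel3 : Heis.Rel 3 (wd A3) (wd B3) (wd W3) := by
  refine ⟨?_, ?_, ?_, ?_, ?_, ?_, ?_⟩
  · have h1 := eq_of_chkB (show chkB (pw A3 3) [] = true by decide +kernel)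
    rwa [wd_pw, wd_nil] at h1
  · have h1 := eq_of_chkB (show chkB (pw B3 3) [] = true by decide +kernel)
    rwa [wd_pw, wd_nil] at h1
  · have h1 := eq_of_chkB (show chkB (pw W3 3) [] = true by decide +kernel)
    rwa [wd_pw, wd_nil] at h1
  · have h1 := eq_of_chkB (show chkB (A3 ++ W3) (W3 ++ A3) = true by decide +kernel)
    rwa [wd_append, wd_append] at h1
  · have h1 := eq_of_chkB (show chkB (B3 ++ W3) (W3 ++ B3) = true by decide +kernel)
    rwa [wd_append, wd_append] at h1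
  · have h1 := eq_of_chkB (show chkB (B3 ++ A3) (A3 ++ (B3 ++ W3)) = true by decide +kernel)
    rwa [wd_append, wd_append, wd_append, ← mul_assoc] at h1
  · rw [← wd_nil]
    exact ne_of_chkB (by decide +kernel)

theorem np_three : NP 3 Cfsg.Spor.He := by
  have hp : Fact (Nat.Prime 3) := ⟨by norm_num⟩
  intro x hx _ hP
  refine heis_reps rel3 (by norm_num) (by rw [card_he]; norm_num) ?_ ?_ ?_ hx hP
  · intro k h1 h2
    have : k ≤ 1 := by omega
    rw [← wd_pw]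
    interval_cases k
    exacts [pc3_w1]
  · intro k h1 h2
    have : k ≤ 1 := by omega
    rw [← wd_pw]
    interval_cases k
    exacts [pc3_b1]
  · intro i j h1 h2 h3
    have : i ≤ 1 := by omega
    rw [← wd_pw, ← wd_pw, ← wd_append]
    interval_cases i <;> interval_cases j
    exacts [pc3_1_0, pc3_1_1, pc3_1_2]

theorem np_five : NP 5 Cfsg.Spor.He := by
  have hp : Fact (Nat.Prime 5) := ⟨by norm_num⟩
  have r4 : wd A5 ^ 5 = 1 := by
    have h1 := eq_of_chkB (show chkB (pw A5 5) [] = true by decide +kernel)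
    rwa [wd_pw, wd_nil] at h1
  intro x hx _ hP
  refine abel_reps (a := wd A5) (b := wd B5) ?_ r4 ?_ ?_ ?_ (by norm_num) (by rw [card_he]; norm_num) ?_ ?_ hx hP
  · have h1 := eq_of_chkB (show chkB (B5 ++ A5) (A5 ++ B5) = true by decide +kernel)
    rwa [wd_append, wd_append] at h1
  · have h1 := eq_of_chkB (show chkB (pw B5 5) [] = true by decide +kernel)
    rwa [wd_pw, wd_nil] at h1
  · rw [← wd_nil]
    exact ne_of_chkB (by decide +kernel)
  · intro h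
    rw [← mem_powers_iff_mem_zpowers] at h
    obtain ⟨k, hk⟩ := h
    have hk' : wd A5 ^ k = wd B5 := hk
    rw [Heis.pow_red r4] at hk'
    have hk5 : k % 5 < 5 := Nat.mod_lt _ (by norm_num)
    generalize k % 5 = j at hk' hk5
    revert hk'
    rw [← wd_pw]
    apply ne_of_chkB
    interval_cases j <;> decide +kernel
  · intro k h1 h2
    have : k ≤ 2 := by omega
    rw [← wd_pw]
    interval_cases k
    exacts [pc5_b1, pc5_b2]
  · intro i j h1 h2 h3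
    have : i ≤ 2 := by omega
    rw [← wd_pw, ← wd_pw, ← wd_append]
    interval_cases i <;> interval_cases j
    exacts [pc5_1_0, pc5_1_1, pc5_1_2, pc5_1_3, pc5_1_4, pc5_2_0, pc5_2_1, pc5_2_2, pc5_2_3, pc5_2_4]

theorem rel7 : Heis.Rel 7 (wd A7) (wd B7) (wd W7) := by
  refine ⟨?_, ?_, ?_, ?_, ?_, ?_, ?_⟩
  · have h1 := eq_of_chkB (show chkB (pw A7 7) [] = true by decide +kernel)
    rwa [wd_pw, wd_nil] at h1
  · have h1 := eq_of_chkB (show chkB (pw B7 7) [] = true by decide +kernel)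
    rwa [wd_pw, wd_nil] at h1
  · have h1 := eq_of_chkB (show chkB (pw W7 7) [] = true by decide +kernel)
    rwa [wd_pw, wd_nil] at h1
  · have h1 := eq_of_chkB (show chkB (A7 ++ W7) (W7 ++ A7) = true by decide +kernel)
    rwa [wd_append, wd_append] at h1
  · have h1 := eq_of_chkB (show chkB (B7 ++ W7) (W7 ++ B7) = true by decide +kernel)
    rwa [wd_append, wd_append] at h1
  · have h1 := eq_of_chkB (show chkB (B7 ++ A7) (A7 ++ (B7 ++ W7)) = true by decide +kernel)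
    rwa [wd_append, wd_append, wd_append, ← mul_assoc] at h1
  · rw [← wd_nil]
    exact ne_of_chkB (by decide +kernel)

theorem np_seven : NP 7 Cfsg.Spor.He := by
  have hp : Fact (Nat.Prime 7) := ⟨by norm_num⟩
  intro x hx _ hP
  refine heis_reps rel7 (by norm_num) (by rw [card_he]; norm_num) ?_ ?_ ?_ hx hP
  · intro k h1 h2
    have : k ≤ 3 := by omega
    rw [← wd_pw]
    interval_cases k
    exacts [pc7_w1, pc7_w2, pc7_w3]
  · intro k h1 h2
    have : k ≤ 3 := by omega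
    rw [← wd_pw]
    interval_cases k
    exacts [pc7_b1, pc7_b2, pc7_b3]
  · intro i j h1 h2 h3
    have : i ≤ 3 := by omega
    rw [← wd_pw, ← wd_pw, ← wd_append]
    interval_cases i <;> interval_cases j
    exacts [pc7_1_0, pc7_1_1, pc7_1_2, pc7_1_3, pc7_1_4, pc7_1_5, pc7_1_6, pc7_2_0, pc7_2_1, pc7_2_2, pc7_2_3, pc7_2_4, pc7_2_5, pc7_2_6, pc7_3_0, pc7_3_1, pc7_3_2, pc7_3_3, pc7_3_4, pc7_3_5, pc7_3_6]

theorem simple : IsSimpleGroup Cfsg.Spor.He := Cfsg.Agent.S1695.result.1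

theorem core {K : Type*} [Group K] [Finite K] (h : Cfsg.Spor.IsoHe K) : Core K := by
  obtain ⟨e⟩ := h
  have hf : Finite Cfsg.Spor.He := Finite.of_equiv K e.toEquiv
  refine Core.of_equiv e ?_
  have hs := simple
  refine core_of_card (s := 2 ^ 10 * 3 ^ 3 * 5 ^ 2 * 7 ^ 3) (m := 17)
    (by rw [card_he]; norm_num) (Irreducible.squarefree (by norm_num : Nat.Prime 17)) (by norm_num)
    (fun p hp hp2 x hx => Cfsg.Agent.CpAutHe.Row.autInner hp.out hp2 x hx) ?_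
  intro p hp hp2 hd
  rcases (Nat.Prime.dvd_mul hp).1 hd with h1 | h1
  · rcases (Nat.Prime.dvd_mul hp).1 h1 with h2 | h2
    · rcases (Nat.Prime.dvd_mul hp).1 h2 with h3 | h3
      · exact absurd ((Nat.prime_dvd_prime_iff_eq hp Nat.prime_two).1 (hp.dvd_of_dvd_pow h3)) hp2
      · rw [(Nat.prime_dvd_prime_iff_eq hp Nat.prime_three).1 (hp.dvd_of_dvd_pow h3)]
        exact np_three
    · rw [(Nat.prime_dvd_prime_iff_eq hp (by norm_num : Nat.Prime 5)).1 (hp.dvd_of_dvd_pow h2)]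
      exact np_five
  · rw [(Nat.prime_dvd_prime_iff_eq hp (by norm_num : Nat.Prime 7)).1 (hp.dvd_of_dvd_pow h1)]
    exact np_seven

end Cfsg.Agent.H235.AA.He
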