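import Cfsg.Agent.H478.RadHeis
import Cfsg.Agent.H235.AA.Transv
import Cfsg.Agent.H839.Rad.Center
import Cfsg.Agent.H235.AA.Tools

/-!
# The `AA` problem for groups with an extraspecial Sylow subgroup of order `p ^ 3` (helper235, after helper478's `RadHeis`)

`np_heis` : the Sylow `p`-subgroup is generated by `a`, `b` with `b a = a b w`, the elements `a`, `b`, `w` are conjugate:
no element of order `p` has `PC p`.  Also for `p = 3`.
-/

set_option autoImplicit false

namespace Cfsg.Agent.H235.AA.Heis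

open Subgroup Cfsg Cfsg.Agent.H839.Rad Cfsg.Agent.H459.Rad Cfsg.Agent.H459.Iface Cfsg.Agent.H235.AA.Tools
  Cfsg.Agent.H235.AA.Transv Cfsg.Agent.H478.RadHeis
open Cfsg.Agent.H859

variable {K : Type*} [Group K] {p : ℕ} [hpf : Fact p.Prime] {a b w : K} (h : Heis.Rel p a b w)
include h

/-- no radical element of order `p` outside of `⟨w⟩` -/
theorem false_of_heis [Finite K] (hi : ¬ p ∣ (Heis.gp h).index)
    (ha : IsConj w a) (hb : IsConj w b) {x : K} (hx : x ∈ Heis.gp h) (hxw : x ∉ zpowers w)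
    (hps : PC p x) : False := by
  have hp := hpf.out
  have key : ∀ w' : K, w' ∈ Heis.gp h → IsConj w w' → x * w' ≠ w' * x → False := by
    intro w' hw' hcw hne
    obtain ⟨g, hg, hgw⟩ := exists_good h hi hcw hw'
    have how' : orderOf w' = p := by
      rw [← hg, ← MulAut.conj_apply, MulEquiv.orderOf_eq, Heis.orderOf_w h]
    have hw'w : w' ∉ zpowers w := by
      intro h1
      obtain ⟨n, rfl⟩ := h1
      exact hne ((show Commute w x from Heis.w_comm h hx).zpow_left n).eq.symm
    have hgn : g⁻¹ * w * g ∉ zpowers w := by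
      intro h1
      have h2 : w ∈ zpowers w' := by
        obtain ⟨n, hn⟩ := h1
        refine ⟨n, ?_⟩
        show w' ^ n = w
        have hn' : w ^ n = g⁻¹ * w * g := hn
        rw [← hg, conj_zpow, hn']
        group
      have h3 : zpowers w = zpowers w' := by
        apply Subgroup.eq_of_le_of_card_ge ((zpowers_le).2 h2)
        rw [Nat.card_zpowers, Nat.card_zpowers, how', Heis.orderOf_w h]
      exact hw'w (h3 ▸ mem_zpowers w')
    -- the element `q`
    obtain ⟨q, hq, k, hk, hqw⟩ : ∃ q : K, q * w' = w' * q ∧ ∃ k : ℤ, ¬ (p : ℤ) ∣ k ∧ q * w * q⁻¹ = w * w' ^ k := by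
      have hq' : ∀ r ∈ Heis.gp h, g⁻¹ * w * g * r ≠ r * (g⁻¹ * w * g) → ∃ q : K, q * w' = w' * q ∧
          ∃ k : ℤ, ¬ (p : ℤ) ∣ k ∧ q * w * q⁻¹ = w * w' ^ k := by
        intro r hr hrn
        obtain ⟨m, hm⟩ := comm_form h hr hgw
        refine ⟨g * r * g⁻¹, ?_, m, ?_, ?_⟩
        · have h1 := Heis.w_comm h hr
          rw [← hg]
          calc g * r * g⁻¹ * (g * w * g⁻¹) = g * (r * w) * g⁻¹ := by group
            _ = g * w * g⁻¹ * (g * r * g⁻¹) := by rw [← h1]; group
        · rintro ⟨l, rfl⟩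
          apply hrn
          rw [zpow_mul, zpow_natCast, h.wp, one_zpow, mul_one, mul_inv_eq_iff_eq_mul] at hm
          exact hm.symm
        · calc g * r * g⁻¹ * w * (g * r * g⁻¹)⁻¹ = g * (r * (g⁻¹ * w * g) * r⁻¹) * g⁻¹ := by group
            _ = w * (g * w * g⁻¹) ^ m := by rw [hm, conj_zpow]; group
            _ = w * w' ^ m := by rw [hg]
      rcases exists_not_comm h hgw hgn with h1 | h1
      · exact hq' a (Heis.a_mem h) h1
      · exact hq' b (Heis.b_mem h) h1
    obtain ⟨j, hj⟩ := comm_form h hx hw'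
    have hjp : ¬ (p : ℤ) ∣ j := by
      rintro ⟨l, rfl⟩
      apply hne
      rw [zpow_mul, zpow_natCast, h.wp, one_zpow, mul_one, mul_inv_eq_iff_eq_mul] at hj
      exact hj
    exact not_pe_pair hp (Heis.orderOf_w h) how' (Heis.w_comm h hw') hw'w hjp hk
      (Heis.w_comm h hx).symm hj hq hqw (hps q)
  rcases exists_not_comm h hx hxw with h1 | h1
  · exact key a (Heis.a_mem h) ha h1
  · exact key b (Heis.b_mem h) hb h1


/-- **extraspecial Sylow subgroups of order `p ^ 3`** -/
theorem pc_false [Finite K] (hi : ¬ p ∣ (Heis.gp h).index)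
    (ha : IsConj w a) (hb : IsConj w b) {x : K} (hx : orderOf x = p) (hps : PC p x) : False := by
  obtain ⟨g, hg⟩ := exists_conj_mem (Heis.isPGroup h) hi (g := x) (by rw [← hx]; exact pow_orderOf_eq_one x)
  have ho : orderOf (g * x * g⁻¹) = p := by rw [← MulAut.conj_apply, MulEquiv.orderOf_eq, hx]
  by_cases h1 : g * x * g⁻¹ ∈ zpowers w
  · obtain ⟨c, hc⟩ := isConj_iff.1 ha
    obtain ⟨n, hn⟩ := h1
    have hn' : w ^ n = g * x * g⁻¹ := hn
    have h2 : c * (g * x * g⁻¹) * c⁻¹ = a ^ n := by rw [← hn', ← hc, conj_zpow]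
    have h3 : c * (g * x * g⁻¹) * c⁻¹ ∈ Heis.gp h := by rw [h2]; exact zpow_mem (Heis.a_mem h) n
    refine false_of_heis h hi ha hb h3 ?_ ((hps.conj g).conj c)
    intro h4
    have h5 : orderOf (c * (g * x * g⁻¹) * c⁻¹) = p := by rw [← MulAut.conj_apply, MulEquiv.orderOf_eq, ho]
    have hpn : ¬ (p : ℤ) ∣ n := by
      intro h6
      rw [h2, zpow_eq_one_of_dvd (by rw [← hc, ← MulAut.conj_apply, MulEquiv.orderOf_eq, Heis.orderOf_w h] : orderOf a = p) h6,
        orderOf_one] at h5
      exact hpf.out.one_lt.ne h5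
    rw [h2] at h4
    have h6 : a ∈ zpowers w := mem_of_zpow hpf.out
      (by rw [← hc, ← MulAut.conj_apply, MulEquiv.orderOf_eq, Heis.orderOf_w h] : orderOf a = p) hpn h4
    obtain ⟨m, hm⟩ := h6
    have hm' : w ^ m = a := hm
    have h7 : b * a = a * b := by
      rw [← hm']
      exact ((show Commute w b from Heis.w_comm h (Heis.b_mem h)).zpow_left m).eq.symm
    exact Heis.not_comm h h7
  · exact false_of_heis h hi ha hb hg h1 (hps.conj g)

theorem np_heis [Finite K] (hi : ¬ p ∣ (Heis.gp h).index) (ha : IsConj w a) (hb : IsConj w b) : NP p K :=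
  fun _ hx _ hps => pc_false h hi ha hb hx hps

end Cfsg.Agent.H235.AA.Heis
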