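import Cfsg.Agent.H235.AA.Row
import Cfsg.Agent.H478.RadJ4
import Cfsg.Agent.H859.CentC
import Cfsg.Agent.KFacts.J4.SheetJ4
import Cfsg.Agent.S0365

/-!
# The `AA` problem for `J4` (helper235)
-/

set_option autoImplicit false

namespace Cfsg.Agent.H235.AA.J4

open Subgroup Cfsg Cfsg.Agent.H459.Rad Cfsg.Agent.H460.AA Cfsg.Agent.H235.AA.Tools Cfsg.Agent.J4Type
open Cfsg.Agent.H839.Rad (RadFree false_of_comm false_of_sylow)

theorem np_eleven : NP 11 Spor.J4 := by
  have hfin : Finite Spor.J4 := Cfsg.Agent.H859.SylEleven.finite_J4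
  have hs : IsSimpleGroup Spor.J4 := Cfsg.Agent.S1703.result.1
  obtain ⟨z, hz⟩ := Cfsg.Agent.H337.isOfJankoFourType_of_isoJ4 (G := Spor.J4) ⟨MulEquiv.refl _⟩
  have hG : ¬ IsMulCommutative Spor.J4 := not_comm_of_card (by rw [Cfsg.Agent.S1703.result.2]; norm_num)
  have hcen : center Spor.J4 = ⊥ := center_eq_bot hG
  refine NP.of_rc fun x hx hR => ?_
  obtain ⟨t, ht, hxt⟩ := Cfsg.Agent.H478.RadJ4.exists_invol hx
  refine false_of_comm hx hR ?_ hxt (Cfsg.Agent.H478.RadJ4.radFree_invol hG hz ht)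
  rw [hcen, mem_bot]
  rintro rfl
  rw [orderOf_one] at ht
  omega

theorem np_three : NP 3 Spor.J4 := by
  obtain ⟨hfin, hsim, ⟨F'⟩⟩ := KFacts.J4.Base.exists_full (K := Cfsg.Spor.J4) ⟨MulEquiv.refl _⟩
  let F := F'.C
  have hcard : Nat.card Spor.J4 = 86775571046077562880 := Cfsg.Agent.S1703.result.2
  have hs : IsSimpleGroup Cfsg.M24 := Cfsg.Agent.S0365.result
  have hcM := Cfsg.Agent.SporadicA.M24Trans.card_M24
  have hNE := Cfsg.Agent.H859.CentC.card_NE F
  have hidx := (normalizer (F.E hex0 : Set Spor.J4)).card_mul_index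
  rw [hNE, hcard] at hidx
  have hidx' : (normalizer (F.E hex0 : Set Spor.J4)).index = 173067389 := by omega
  refine NP.of_rc fun x hx hR => ?_
  refine false_of_sylow (M := normalizer (F.E hex0 : Set Spor.J4)) (by norm_num) hx hR ?_ ?_ ?_
  · intro h
    rw [h, index_top] at hidx'
    omega
  · rw [hidx']; norm_num
  · refine RadFree.of_surj (by norm_num) F.π F.π_surj ?_ (RadFree.of_simple (by norm_num) ?_)
    · intro y hy ho
      have h1 : (y : Spor.J4) ∈ F.E hex0 := by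
        have := (F.π_ker y).1 hy
        exact this
      have h2 := (F.E_elem hex0 FusionConj.isHex_hex0).1 _ h1
      have h3 : orderOf (y : Spor.J4) ∣ 2 := orderOf_dvd_of_pow_eq_one (by rw [pow_two]; exact h2)
      rw [Subgroup.orderOf_coe, ho] at h3
      omega
    · intro hsol
      exact not_comm_of_card (K := Cfsg.M24) (by rw [hcM]; norm_num) ⟨⟨IsSimpleGroup.comm_iff_isSolvable.2 hsol⟩⟩

theorem core {K : Type*} [Group K] [Finite K] (h : Cfsg.Spor.IsoJ4 K) : Core K := by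
  obtain ⟨e⟩ := h
  refine Core.of_equiv e ?_
  have hfin : Finite Spor.J4 := Cfsg.Agent.H859.SylEleven.finite_J4
  have hs : IsSimpleGroup Spor.J4 := Cfsg.Agent.S1703.result.1
  refine core_of_card (s := 2 ^ 21 * 3 ^ 3 * 11 ^ 3) (m := 5 * 7 * 23 * 29 * 31 * 37 * 43)
    (by rw [Cfsg.Agent.S1703.result.2]; norm_num) ?_ (by norm_num) ?_ ?_
  · refine squarefree_mul_of (squarefree_mul_of (squarefree_mul_of (squarefree_mul_of (squarefree_mul_of
      (squarefree_mul_of (Irreducible.squarefree (by norm_num : Nat.Prime 5)) ?_ ?_) ?_ ?_) ?_ ?_) ?_ ?_) ?_ ?_) ?_ ?_ <;> norm_num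
  · intro p hp hp2 x _
    obtain ⟨-, -, ⟨F⟩⟩ := KFacts.J4.Base.exists_full (K := Cfsg.Spor.J4) ⟨MulEquiv.refl _⟩
    exact KFacts.J4.SheetJ4.inner F x
  · intro p hp hp2 hd
    rcases (Nat.Prime.dvd_mul hp).1 hd with h1 | h1
    · rcases (Nat.Prime.dvd_mul hp).1 h1 with h2 | h2
      · exact absurd ((Nat.prime_dvd_prime_iff_eq hp Nat.prime_two).1 (hp.dvd_of_dvd_pow h2)) hp2
      · rw [(Nat.prime_dvd_prime_iff_eq hp Nat.prime_three).1 (hp.dvd_of_dvd_pow h2)]
        exact np_three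
    · rw [(Nat.prime_dvd_prime_iff_eq hp (by norm_num : Nat.Prime 11)).1 (hp.dvd_of_dvd_pow h1)]
      exact np_eleven

end Cfsg.Agent.H235.AA.J4
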