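import Cfsg.Agent.H235.AA.Row
import Cfsg.Agent.H493.RadRows.Ly
import Cfsg.Agent.CpAutLy.Row
import Cfsg.Agent.R10.Close

/-!
# The `AA` problem for `Ly` (helper235)
-/

set_option autoImplicit false

namespace Cfsg.Agent.H235.AA.Ly

open Subgroup Cfsg Cfsg.Agent.H459.Rad Cfsg.Agent.H460.AA Cfsg.Agent.H235.AA.Tools Cfsg.Agent.SporRec.LyG2
open Cfsg.Agent.H839.Rad (RadFree false_of_comm false_of_sylow)

theorem card_Ly : Nat.card Spor.Ly = 51765179004000000 := Cfsg.Agent.Ly.IndexEq.card_ly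

instance fin : Finite Spor.Ly := Nat.finite_of_card_ne_zero (by rw [card_Ly]; norm_num)

theorem simple : IsSimpleGroup Spor.Ly := Cfsg.Agent.Ly.Setup.isLy'.1

theorem not_comm : ¬ IsMulCommutative Spor.Ly := by
  have := simple
  exact not_comm_of_card (by rw [card_Ly]; norm_num)

theorem np_five : NP 5 Spor.Ly := by
  have hidx : LyEmb.H.index = 8835156 := by
    have h := LyEmb.H.card_mul_index
    rw [LyEmb.card_H, card_Ly] at h
    omega
  have hs : IsSimpleGroup LyEmb.H := LyEmb.isSimpleGroup_H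
  refine NP.of_rc fun x hx h1 => ?_
  refine false_of_sylow (M := LyEmb.H) (by norm_num) hx h1 ?_ ?_ ?_
  · intro h
    rw [h, index_top] at hidx
    omega
  · rw [hidx]
    norm_num
  · refine RadFree.of_simple (by norm_num) fun hsol => ?_
    exact not_comm_of_card (K := LyEmb.H) (by rw [LyEmb.card_H]; norm_num)
      ⟨⟨IsSimpleGroup.comm_iff_isSolvable.2 hsol⟩⟩

open Cfsg.Agent.R10.Close in
theorem radFree_invol {p : ℕ} (hp : p.Prime) (hp2 : p ≠ 2) {t : Spor.Ly} (ht : orderOf t = 2) :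
    RadFree p ↥(centralizer ({t} : Set Spor.Ly)) := by
  obtain ⟨g, hg⟩ := one_class ht
  refine radFree_cent_conj hp hg ?_
  obtain ⟨-, hc, ⟨e⟩, -⟩ := cover_τ
  refine radFree_central hp ?_ e (radFree_alt (by norm_num) hp)
  rw [hc]
  intro h
  exact hp2 ((Nat.prime_dvd_prime_iff_eq hp Nat.prime_two).1 h)

open Cfsg.Agent.CpAutLy.Base in
theorem np_three : NP 3 Spor.Ly := by
  have hsim := simple
  obtain ⟨x₀, T⟩ := exists_three
  obtain ⟨hMf, hMs, hMc, -⟩ := TypeM.FactsMcL.facts T.quot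
  obtain ⟨s, hs, hsx, -⟩ := Cfsg.Agent.CpAutLy.Row.exists_base_nn T
  set H := centralizer ({x₀} : Set Spor.Ly) with hH
  have hcH : Nat.card H = 3 * 898128000 := by
    rw [Subgroup.card_eq_card_quotient_mul_card_subgroup (center H), T.zcard, hMc]
  have hidx : H.index = 19212250 := by
    have h := H.card_mul_index
    rw [hcH, card_Ly] at h
    omega
  have hM : ¬ IsMulCommutative (↥H ⧸ center ↥H) := not_comm_of_card (by rw [hMc]; norm_num)
  -- the radical of `H` is its centre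
  have hrad : ∀ x : H, x ∈ solvableRadical H → x ∈ center H := by
    intro x hx
    have h1 := map_rad_le (QuotientGroup.mk'_surjective (center H)) hx
    rw [rad_eq_bot_of_simple (Q := ↥H ⧸ center ↥H) (fun h => hM ⟨⟨IsSimpleGroup.comm_iff_isSolvable.2 h⟩⟩), mem_bot] at h1
    exact (QuotientGroup.eq_one_iff _).1 h1
  refine NP.of_rc fun x hx hR => ?_
  have hcen := center_eq_bot not_comm
  -- a conjugate lies in `H`
  have h3 : Fact (Nat.Prime 3) := ⟨Nat.prime_three⟩
  have hx' : IsPGroup 3 ↥(zpowers x) := IsPGroup.of_card (n := 1) (by rw [Nat.card_zpowers, hx, pow_one])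
  obtain ⟨g, hg⟩ : ∃ g : Spor.Ly, g * x * g⁻¹ ∈ H := by
    have h2 : (MulAction.fixedPoints (zpowers x) (Spor.Ly ⧸ H)).Nonempty := by
      refine hx'.nonempty_fixed_point_of_prime_not_dvd_card (α := Spor.Ly ⧸ H) ?_
      have : Nat.card (Spor.Ly ⧸ H) = 19212250 := hidx
      rw [this]; norm_num
    obtain ⟨y, hy⟩ := h2
    obtain ⟨g, rfl⟩ := QuotientGroup.mk_surjective y
    refine ⟨g⁻¹, ?_⟩
    have h3 := hy ⟨x, mem_zpowers x⟩
    have h4 : ((x * g : Spor.Ly) : Spor.Ly ⧸ H) = (g : Spor.Ly ⧸ H) := h3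
    rw [QuotientGroup.eq] at h4
    have h5 := H.inv_mem h4
    rw [inv_inv]
    have e : ((x * g)⁻¹ * g)⁻¹ = g⁻¹ * x * g := by group
    rwa [e] at h5
  have hHt : H ≠ ⊤ := by
    intro h
    rw [h, index_top] at hidx
    omega
  have h1 := mem_radIn (RC_conj hR g) hHt hg
  have h2 := mem_radIn_coe (x := ⟨_, hg⟩) |>.1 h1
  have h4 := hrad _ h2
  have h5 : g * x * g⁻¹ * s = s * (g * x * g⁻¹) := by
    have h6 := mem_center_iff.1 h4 ⟨s, mem_centralizer_singleton_iff.2 hsx⟩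
    exact (congrArg Subtype.val h6).symm
  refine false_of_comm (x := g * x * g⁻¹) (t := s) (p := 3) (by rw [← MulAut.conj_apply, MulEquiv.orderOf_eq, hx])
    (RC_conj hR g) ?_ h5 (radFree_invol Nat.prime_three (by norm_num) hs)
  rw [hcen, mem_bot]
  rintro rfl
  rw [orderOf_one] at hs
  omega

theorem core {K : Type*} [Group K] [Finite K] (h : Cfsg.Spor.IsoLy K) : Core K := by
  obtain ⟨e⟩ := h
  refine Core.of_equiv e ?_
  have hs := simple
  refine core_of_card (s := 2 ^ 8 * 3 ^ 7 * 5 ^ 6) (m := 7 * 11 * 31 * 37 * 67)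
    (by rw [card_Ly]; norm_num) ?_ (by norm_num) (fun p _ _ x hx => Cfsg.Agent.CpAut.LyFiveRow.autInner p x hx) ?_
  · refine squarefree_mul_of (squarefree_mul_of (squarefree_mul_of (squarefree_mul_of
      (Irreducible.squarefree (by norm_num : Nat.Prime 7)) ?_ ?_) ?_ ?_) ?_ ?_) ?_ ?_ <;> norm_num
  · intro p hp hp2 hd
    rcases (Nat.Prime.dvd_mul hp).1 hd with h1 | h1
    · rcases (Nat.Prime.dvd_mul hp).1 h1 with h2 | h2
      · exact absurd ((Nat.prime_dvd_prime_iff_eq hp Nat.prime_two).1 (hp.dvd_of_dvd_pow h2)) hp2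
      · rw [(Nat.prime_dvd_prime_iff_eq hp Nat.prime_three).1 (hp.dvd_of_dvd_pow h2)]
        exact np_three
    · rw [(Nat.prime_dvd_prime_iff_eq hp (by norm_num : Nat.Prime 5)).1 (hp.dvd_of_dvd_pow h1)]
      exact np_five

end Cfsg.Agent.H235.AA.Ly
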