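import Cfsg.Agent.H235.AA.Row
import Cfsg.Agent.S1693
import Cfsg.Agent.S0249
import Cfsg.Agent.R04.ONThree
import Cfsg.Agent.KFacts.ON.Sheet
import Cfsg.Agent.KFacts.ON.OneClass
import Cfsg.Agent.CpAutON.Seven

/-!
# The `AA` problem for `ON` (helper235)
-/

set_option autoImplicit false

namespace Cfsg.Agent.H235.AA.ON

open Subgroup Cfsg Cfsg.Agent.H459.Rad Cfsg.Agent.H460.AA Cfsg.Agent.H235.AA.Tools
open Cfsg.Agent.H839.Rad (RadFree false_of_comm false_of_sylow)
open Cfsg.Spor (ON)
open Cfsg.Agent.SporadicB.ON45Word (on)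
open Cfsg.Agent.KFacts.ON.Struct Cfsg.Agent.KFacts.ON.Words

theorem card_ON : Nat.card ON = 460815505920 := Cfsg.Agent.KFacts.ON.Cent.hON.2

theorem simple : IsSimpleGroup ON := Cfsg.Agent.KFacts.ON.Cent.hON.1

instance fin : Finite ON := Cfsg.Agent.KFacts.ON.Cent.finite_ON

theorem not_comm : ¬ IsMulCommutative ON := by
  have := simple
  exact not_comm_of_card (by rw [card_ON]; norm_num)

theorem np_seven : NP 7 ON := by
  obtain ⟨N, -, hN, ⟨e⟩⟩ := Cfsg.Agent.S1693.result
  have hps : IsSimpleGroup (Matrix.ProjectiveSpecialLinearGroup (Fin 3) (ZMod 7)) := by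
    have : Fact (Nat.Prime 7) := ⟨by norm_num⟩
    exact Cfsg.Agent.S0249.result 3 le_rfl
  have hNs : IsSimpleGroup N := e.isSimpleGroup
  have hcH : Nat.card Cfsg.Agent.SporRec.ONAssembly.H = 3753792 :=
    Cfsg.Agent.SporRec.ONAssembly.card_H SporRec.ONLower.ab_ne_one
  have hcN : Nat.card N = 1876896 := by
    have h := N.card_mul_index
    rw [hN] at h
    have h' : Nat.card N * 2 = 3753792 := h.trans hcH
    omega
  let M : Subgroup ON := N.map (Cfsg.Agent.SporRec.ONAssembly.H).subtype
  let f : N ≃* M := N.equivMapOfInjective _ (Subgroup.subtype_injective _)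
  have hMs : IsSimpleGroup M := f.symm.isSimpleGroup
  have hcM : Nat.card M = 1876896 := by rw [← Nat.card_congr f.toEquiv, hcN]
  have hidx : M.index = 245520 := by
    have h := M.card_mul_index
    rw [hcM, card_ON] at h
    omega
  refine NP.of_rc fun x hx hR => ?_
  refine false_of_sylow (M := M) (by norm_num) hx hR ?_ (by rw [hidx]; norm_num) ?_
  · intro h
    rw [h, index_top] at hidx
    omega
  · refine RadFree.of_simple (by norm_num) fun hsol => ?_
    exact not_comm_of_card (K := M) (by rw [hcM]; norm_num) ⟨⟨IsSimpleGroup.comm_iff_isSolvable.2 hsol⟩⟩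

/-- the centralizer of the involution `f` -/
theorem radFree_f : RadFree 3 ↥(centralizer ({on .f} : Set ON)) := by
  have hJle : J ≤ centralizer ({on .f} : Set ON) := by
    intro x hx
    exact mem_centralizer_singleton_iff.2 (mem_K0.1 (J_le hx))
  have hcC : Nat.card ↥(centralizer ({on .f} : Set ON)) = 161280 := Cfsg.Agent.KFacts.ON.Cent.card_cent
  have hn : (J.subgroupOf (centralizer ({on .f} : Set ON))).Normal := by
    constructor
    intro x hx g
    exact mem_subgroupOf.2 (J_normal (mem_K0.2 (mem_centralizer_singleton_iff.1 g.2)) (mem_subgroupOf.1 hx))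
  have hi : (J.subgroupOf (centralizer ({on .f} : Set ON))).index = 2 := by
    have h := (J.subgroupOf (centralizer ({on .f} : Set ON))).card_mul_index
    rw [Nat.card_congr (subgroupOfEquivOfLe hJle).toEquiv, card_J, hcC] at h
    omega
  refine RadFree.of_index Nat.prime_three (J.subgroupOf (centralizer ({on .f} : Set ON))) (by rw [hi]; norm_num)
    (RadFree.congr Nat.prime_three (subgroupOfEquivOfLe hJle) ?_)
  -- `J` is quasisimple with centre in `⟨v⟩`
  have hq : IsQuasisimple J := Cfsg.Agent.KFacts.ON.Qs.qs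
  have h2 : IsSimpleGroup (J ⧸ center J) := hq.2
  have hns : ¬ Group.IsSolvable (J ⧸ center J) := by
    intro hs
    have h1 := IsSimpleGroup.comm_iff_isSolvable.2 hs
    have h3 : commutator J = ⊤ := hq.1.commutator_eq_top
    have h4 : commutator J ≤ center J := by
      rw [_root_.commutator_def, commutator_le]
      intro a _ b _
      rw [← QuotientGroup.eq_one_iff]
      have h5 := h1 (a : J ⧸ center J) (b : J ⧸ center J)
      rw [← QuotientGroup.mk'_apply, map_commutatorElement, commutatorElement_eq_one_iff_mul_comm]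
      exact h5
    rw [h3, top_le_iff] at h4
    have h6 : Subsingleton (J ⧸ center J) := by rw [h4]; exact QuotientGroup.subsingleton_quotient_top
    exact not_subsingleton (J ⧸ center J) h6
  refine RadFree.of_surj Nat.prime_three (QuotientGroup.mk' (center J)) (QuotientGroup.mk'_surjective _) ?_
    (.of_simple (by norm_num) hns)
  intro x hx ho
  have h3 : x ∈ center J := (QuotientGroup.eq_one_iff x).1 hx
  have h4 : (x : ON) ∈ zpowers v := cent_J fun y hy => by
    have h5 := mem_center_iff.1 h3 ⟨y, hy⟩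
    exact (congrArg Subtype.val h5).symm
  obtain ⟨k, hk⟩ := h4
  have hk' : v ^ k = (x : ON) := hk
  have hv4 : v ^ 4 = 1 := by
    have h5 : v ^ 2 = on .f := by rw [pow_two]; exact vv
    rw [show 4 = 2 * 2 by norm_num, pow_mul, h5, pow_two, ff]
  have h6 : (x : ON) ^ 4 = 1 := by
    rw [← hk', ← zpow_natCast, ← zpow_mul, mul_comm, zpow_mul, zpow_natCast, hv4, one_zpow]
  have h7 : orderOf (x : ON) ∣ 4 := orderOf_dvd_of_pow_eq_one h6
  rw [Subgroup.orderOf_coe, ho] at h7
  omega

theorem np_three : NP 3 ON := by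
  have hs := simple
  have hcen := center_eq_bot not_comm
  refine NP.of_rc fun x hx hR => ?_
  obtain ⟨s, hs2, hsx⟩ := Cfsg.Agent.R04.ONThree.exists_inv Cfsg.Agent.KFacts.ON.Cent.hON x hx
  have h1 : IsConj (on .f) s := by
    refine (Cfsg.Agent.KFacts.ON.OneClass.one_class ?_ ?_).symm
    · rw [← pow_two, ← hs2, pow_orderOf_eq_one]
    · rintro rfl
      rw [orderOf_one] at hs2
      omega
  obtain ⟨g, hg⟩ := isConj_iff.1 h1
  refine false_of_comm hx hR ?_ hsx.symm (radFree_cent_conj Nat.prime_three hg radFree_f)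
  rw [hcen, mem_bot]
  rintro rfl
  rw [orderOf_one] at hs2
  omega

theorem core {K : Type*} [Group K] [Finite K] (h : Cfsg.Spor.IsoON K) : Core K := by
  obtain ⟨e⟩ := h
  refine Core.of_equiv e ?_
  have hs := simple
  refine core_of_card (s := 2 ^ 9 * 3 ^ 4 * 7 ^ 3) (m := 5 * 11 * 19 * 31)
    (by rw [card_ON]; norm_num) ?_ (by norm_num)
    (fun p hp hp2 x hx => Cfsg.Agent.CpAutON.Seven.autInner hp.out hp2 x hx) ?_
  · refine squarefree_mul_of (squarefree_mul_of (squarefree_mul_of
      (Irreducible.squarefree (by norm_num : Nat.Prime 5)) ?_ ?_) ?_ ?_) ?_ ?_ <;> norm_num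
  · intro p hp hp2 hd
    rcases (Nat.Prime.dvd_mul hp).1 hd with h1 | h1
    · rcases (Nat.Prime.dvd_mul hp).1 h1 with h2 | h2
      · exact absurd ((Nat.prime_dvd_prime_iff_eq hp Nat.prime_two).1 (hp.dvd_of_dvd_pow h2)) hp2
      · rw [(Nat.prime_dvd_prime_iff_eq hp Nat.prime_three).1 (hp.dvd_of_dvd_pow h2)]
        exact np_three
    · rw [(Nat.prime_dvd_prime_iff_eq hp (by norm_num : Nat.Prime 7)).1 (hp.dvd_of_dvd_pow h1)]
      exact np_seven

end Cfsg.Agent.H235.AA.ON
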