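import Cfsg.Agent.H978.RadRu
import Cfsg.Agent.H235.AA.Row
import Cfsg.Agent.H235.AA.Reps
import Cfsg.Agent.SporadicB.RuTits
import Cfsg.Agent.OddHalf.Table.OutRu

/-!
# The `AA` problem for `Ru` (helper235)
-/

set_option autoImplicit false
set_option maxRecDepth 100000
set_option exponentiation.threshold 5000

namespace Cfsg.Agent.H235.AA.Ru

open Cfsg.Agent.SporadicB Cfsg.Agent.SporadicB.RuOrder Cfsg.Agent.SporRec.TCUpperCert Cfsg.Agent.SporRec.R3.Kernel
  Cfsg.Agent.RuD.Letters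
open Cfsg.Agent.H978.RadRu Cfsg.Agent.H235.AA.Tools Cfsg.Agent.H235.AA.Reps Cfsg.Agent.H859 Cfsg.Agent.H460.AA
open Cfsg.Agent.H839.Rad (RadFree false_of_sylow)

/-- the certificate -/
noncomputable def chkP (b : ℕ) (u v vi : List ℕ) (n : ℕ) : Bool :=
  and (and (Nat.beq (Nat.gcd 5 n) 1) (and (Nat.ble (Nat.succ b) 4060) (not (Nat.beq (evalK (u ++ (v ++ (u ++ vi))) b) b))))
    (chkRel [v ++ vi, rep n (u ++ (v ++ (u ++ vi)))])

theorem not_pc_of_chk {b : ℕ} {u v vi : List ℕ} {n : ℕ} (h : chkP b u v vi n = true) : ¬ PC 5 (wprod ml u) := by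
  unfold chkP at h
  rw [Bool.and_eq_true, Bool.and_eq_true, Bool.and_eq_true] at h
  obtain ⟨⟨hn, hb, h0⟩, hr⟩ := h
  have hr' := rel_of_chk hr
  have r1 := hr' (v ++ vi) (by simp)
  have r2 := hr' (rep n (u ++ (v ++ (u ++ vi)))) (by simp)
  have h1 := ne_one_of (Nat.le_of_ble_eq_true hb) (by simpa using h0)
  simp only [wprod_rep, wprod_append] at r1 r2 h1
  have hvi : wprod ml vi = (wprod ml v)⁻¹ := (inv_eq_of_mul_eq_one_right r1).symm
  rw [hvi, ← mul_assoc (wprod ml v)] at r2 h1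
  exact not_pc (g := wprod ml v) r2 h1 (Nat.eq_of_beq_eq_true hn)

theorem pc_w1 : ¬ PC 5 (wprod ml (rep 1 wc)) :=
  not_pc_of_chk (b := 0) (v := [0]) (vi := [0]) (n := 6) (by decide +kernel)

theorem pc_w2 : ¬ PC 5 (wprod ml (rep 2 wc)) :=
  not_pc_of_chk (b := 0) (v := [4]) (vi := [8]) (n := 6) (by decide +kernel)

theorem pc_b1 : ¬ PC 5 (wprod ml (rep 1 wa)) :=
  not_pc_of_chk (b := 0) (v := [5]) (vi := [5]) (n := 4) (by decide +kernel)

theorem pc_b2 : ¬ PC 5 (wprod ml (rep 2 wa)) :=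
  not_pc_of_chk (b := 0) (v := [2]) (vi := [2]) (n := 7) (by decide +kernel)

theorem pc_1_0 : ¬ PC 5 (wprod ml (rep 1 wb ++ rep 0 wa)) :=
  not_pc_of_chk (b := 0) (v := [4]) (vi := [8]) (n := 6) (by decide +kernel)

theorem pc_1_1 : ¬ PC 5 (wprod ml (rep 1 wb ++ rep 1 wa)) :=
  not_pc_of_chk (b := 0) (v := [1]) (vi := [6]) (n := 12) (by decide +kernel)

theorem pc_1_2 : ¬ PC 5 (wprod ml (rep 1 wb ++ rep 2 wa)) :=
  not_pc_of_chk (b := 0) (v := [5]) (vi := [5]) (n := 4) (by decide +kernel)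

theorem pc_1_3 : ¬ PC 5 (wprod ml (rep 1 wb ++ rep 3 wa)) :=
  not_pc_of_chk (b := 0) (v := [5]) (vi := [5]) (n := 6) (by decide +kernel)

theorem pc_1_4 : ¬ PC 5 (wprod ml (rep 1 wb ++ rep 4 wa)) :=
  not_pc_of_chk (b := 0) (v := [5]) (vi := [5]) (n := 6) (by decide +kernel)

theorem pc_2_0 : ¬ PC 5 (wprod ml (rep 2 wb ++ rep 0 wa)) :=
  not_pc_of_chk (b := 0) (v := [2]) (vi := [2]) (n := 6) (by decide +kernel)

theorem pc_2_1 : ¬ PC 5 (wprod ml (rep 2 wb ++ rep 1 wa)) :=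
  not_pc_of_chk (b := 0) (v := [2]) (vi := [2]) (n := 6) (by decide +kernel)

theorem pc_2_2 : ¬ PC 5 (wprod ml (rep 2 wb ++ rep 2 wa)) :=
  not_pc_of_chk (b := 0) (v := [5]) (vi := [5]) (n := 4) (by decide +kernel)

theorem pc_2_3 : ¬ PC 5 (wprod ml (rep 2 wb ++ rep 3 wa)) :=
  not_pc_of_chk (b := 0) (v := [2]) (vi := [2]) (n := 7) (by decide +kernel)

theorem pc_2_4 : ¬ PC 5 (wprod ml (rep 2 wb ++ rep 4 wa)) :=
  not_pc_of_chk (b := 0) (v := [4]) (vi := [8]) (n := 4) (by decide +kernel)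


theorem rel : Heis.Rel 5 (wprod ml wb) (wprod ml wa) (wprod ml wc) := by
  have hr := rel_of_chk chk_rels
  have r1 := hr (rep 5 wa) (by simp)
  have r2 := hr (rep 5 wb) (by simp)
  have r3 := hr (rep 5 wc) (by simp)
  have e1 : wprod ml (wa ++ wc) = wprod ml (wc ++ wa) := eq_of_chkEqW (by decide +kernel)
  have e2 : wprod ml (wb ++ wc) = wprod ml (wc ++ wb) := eq_of_chkEqW (by decide +kernel)
  have e3 : wprod ml (wa ++ wb) = wprod ml (wb ++ (wa ++ wc)) := eq_of_chkEqW (by decide +kernel)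
  simp only [wprod_rep, wprod_append] at r1 r2 r3 e1 e2 e3
  rw [← mul_assoc] at e3
  exact ⟨r2, r1, r3, e2, e1, e3, ne_one_of (b := 29) (by norm_num) (by decide +kernel)⟩

theorem np_five : NP 5 RuOrder.H := by
  have h5 : Fact (Nat.Prime 5) := ⟨by norm_num⟩
  have e : ∀ i j : ℕ, wprod ml wb ^ i * wprod ml wa ^ j = wprod ml (rep i wb ++ rep j wa) := fun i j => by
    rw [wprod_append, wprod_rep, wprod_rep]
  intro x hx _ hP
  refine heis_reps rel (by norm_num) (by rw [card_H]; norm_num) ?_ ?_ ?_ hx hP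
  · intro k h1 h2
    have : k ≤ 2 := by omega
    rw [← wprod_rep]
    interval_cases k
    exacts [pc_w1, pc_w2]
  · intro k h1 h2
    have : k ≤ 2 := by omega
    rw [← wprod_rep]
    interval_cases k
    exacts [pc_b1, pc_b2]
  · intro i j h1 h2 h3
    have : i ≤ 2 := by omega
    rw [e]
    interval_cases i <;> interval_cases j
    exacts [pc_1_0, pc_1_1, pc_1_2, pc_1_3, pc_1_4, pc_2_0, pc_2_1, pc_2_2, pc_2_3, pc_2_4]

theorem np_three : NP 3 RuOrder.H := by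
  have hsT : IsSimpleGroup RuTits.T := RuTits.isSimpleGroup_T
  have hle : RuTits.T ≤ RuOrder.H := RuTits.T_le.trans (by intro x hx; exact hx.1)
  let M : Subgroup RuOrder.H := RuTits.T.subgroupOf RuOrder.H
  have hcM : Nat.card M = 17971200 := by
    rw [Nat.card_congr (Subgroup.subgroupOfEquivOfLe hle).toEquiv]
    exact RuTits.card_T
  have hidx : M.index = 8120 := by
    have h := M.card_mul_index
    rw [hcM, card_H] at h
    omega
  refine NP.of_rc fun x hx hR => ?_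
  refine false_of_sylow (M := M) (by norm_num) hx hR ?_ (by rw [hidx]; norm_num) ?_
  · intro h
    rw [h, Subgroup.index_top] at hidx
    omega
  · refine RadFree.congr Nat.prime_three (Subgroup.subgroupOfEquivOfLe hle) ?_
    have hf : Finite RuTits.T := Nat.finite_of_card_ne_zero (by rw [RuTits.card_T]; norm_num)
    refine RadFree.of_simple (by norm_num) fun hsol => ?_
    exact not_comm_of_card (K := RuTits.T) (by rw [RuTits.card_T]; norm_num)
      ⟨⟨IsSimpleGroup.comm_iff_isSolvable.2 hsol⟩⟩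

theorem core {K : Type*} [Group K] [Finite K] (h : Cfsg.Spor.IsoRu K) : Core K := by
  obtain ⟨e⟩ := h
  refine Core.of_equiv (e.trans Cfsg.Agent.RuLat.Main.equiv) ?_
  have hs : IsSimpleGroup RuOrder.H := Cfsg.Agent.SporadicB.RuSimple.isSimpleGroup_H
  refine core_of_card (s := 2 ^ 14 * 3 ^ 3 * 5 ^ 3) (m := 7 * 13 * 29)
    (by rw [card_H]; norm_num) ?_ (by norm_num) (fun p _ _ x hx => Cfsg.Agent.OddHalf.Table.OutRu.inner x) ?_
  · refine squarefree_mul_of (squarefree_mul_of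
      (Irreducible.squarefree (by norm_num : Nat.Prime 7)) ?_ ?_) ?_ ?_ <;> norm_num
  · intro p hp hp2 hd
    rcases (Nat.Prime.dvd_mul hp).1 hd with h1 | h1
    · rcases (Nat.Prime.dvd_mul hp).1 h1 with h2 | h2
      · exact absurd ((Nat.prime_dvd_prime_iff_eq hp Nat.prime_two).1 (hp.dvd_of_dvd_pow h2)) hp2
      · rw [(Nat.prime_dvd_prime_iff_eq hp Nat.prime_three).1 (hp.dvd_of_dvd_pow h2)]
        exact np_three
    · rw [(Nat.prime_dvd_prime_iff_eq hp (by norm_num : Nat.Prime 5)).1 (hp.dvd_of_dvd_pow h1)]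
      exact np_five

end Cfsg.Agent.H235.AA.Ru
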