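import Cfsg.Agent.H478.RadTh
import Cfsg.Agent.H235.AA.Row
import Cfsg.Agent.H235.AA.Heis

/-!
# The `AA` problem for `Th` (helper235): everything but the prime 3
-/

set_option autoImplicit false
set_option maxRecDepth 100000

namespace Cfsg.Agent.H235.AA.Th

open Subgroup Cfsg Cfsg.Agent.H460.AA Cfsg.Agent.H859 Cfsg.Agent.H478.RadTh
open Cfsg.Agent.H839.Rad Cfsg.Agent.H459.Rad Cfsg.Agent.H459.Iface
open Cfsg.Agent.H235.AA.Tools Cfsg.Agent.H235.AA.Heis
open Cfsg.Agent.ThType.Seven (W rho_W W_mul W_inv W_pow W_one W_eq W_ne)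

theorem np_seven : NP 7 Spor.Th := by
  refine NP.of_rc fun x hx hR => ?_
  obtain ⟨t, ht, hxt⟩ := Cfsg.Agent.ThType.Seven.exists_involution_Th isTh hx
  refine false_of_comm hx hR ?_ hxt.symm (radFree_invol (by norm_num) (by norm_num) ht)
  rw [center_Th, mem_bot]
  rintro rfl
  rw [orderOf_one] at ht
  omega

theorem np_five : NP 5 Spor.Th := by
  refine np_heis rel ?_ isConj_w2 isConj_w1
  intro h
  have h1 := (Heis.gp rel).card_mul_index
  rw [Heis.card rel, card_Th] at h1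
  omega

theorem core_of_three (h3 : NP 3 Spor.Th) : Core Spor.Th := by
  have := simple
  refine core_of_card (s := 2 ^ 15 * 3 ^ 10 * 5 ^ 3 * 7 ^ 2) (m := 13 * 19 * 31)
    (by rw [card_Th]; norm_num) ?_ (by norm_num)
    (fun p _ _ x _ => Cfsg.Agent.KFacts.Th.Main.inner x) ?_
  · refine squarefree_mul_of (squarefree_mul_of (Irreducible.squarefree (by norm_num : Nat.Prime 13)) ?_ ?_) ?_ ?_
      <;> norm_num
  · intro p hp hp2 hd
    rcases (Nat.Prime.dvd_mul hp).1 hd with h1 | h1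
    · rcases (Nat.Prime.dvd_mul hp).1 h1 with h2 | h2
      · rcases (Nat.Prime.dvd_mul hp).1 h2 with h4 | h4
        · exact absurd ((Nat.prime_dvd_prime_iff_eq hp Nat.prime_two).1 (hp.dvd_of_dvd_pow h4)) hp2
        · rw [(Nat.prime_dvd_prime_iff_eq hp Nat.prime_three).1 (hp.dvd_of_dvd_pow h4)]
          exact h3
      · rw [(Nat.prime_dvd_prime_iff_eq hp (by norm_num : Nat.Prime 5)).1 (hp.dvd_of_dvd_pow h2)]
        exact np_five
    · rw [(Nat.prime_dvd_prime_iff_eq hp (by norm_num : Nat.Prime 7)).1 (hp.dvd_of_dvd_pow h1)]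
      exact np_seven

end Cfsg.Agent.H235.AA.Th
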