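import Cfsg.Agent.H235.AA.Transv

/-!
# Opposite transvections on a section `⟨a, b, z⟩ / ⟨z⟩`, `z` central (helper235)
-/

set_option autoImplicit false

namespace Cfsg.Agent.H235.AA.Transv

open Subgroup Cfsg.Agent.H460.AA

variable {K : Type*} [Group K] {p : ℕ}

/-- **The product of two opposite transvections on `⟨a, b, z⟩ / ⟨z⟩` is not a `p`-element.** -/
theorem not_pe_mod [hp : Fact p.Prime] {z a b u v : K} (haz : a * z = z * a) (hbz : b * z = z * b)
    (huz : u * z = z * u) (hvz : v * z = z * v) (ha : a ^ p = 1) (hb : b ^ p = 1) (hab : a * b = b * a)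
    (ha1 : a ∉ zpowers z) (hba : ∀ i j : ℤ, b ≠ a ^ i * z ^ j) {m n i j : ℤ} (hm : ¬ (p : ℤ) ∣ m) (hn : ¬ (p : ℤ) ∣ n)
    (hua : u * a = a * u) (hub : u * b * u⁻¹ = b * a ^ m * z ^ i) (hvb : v * b = b * v)
    (hva : v * a * v⁻¹ = a * b ^ n * z ^ j) : ¬ PE p (u * v) := by
  intro hpe
  set C : Subgroup K := centralizer ({z} : Set K) with hC
  have mC : ∀ {y : K}, y * z = z * y → y ∈ C := fun {y} h => mem_centralizer_singleton_iff.2 h
  have hzC : z ∈ C := mC rfl
  let Z : C := ⟨z, hzC⟩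
  have hZn : (zpowers Z).Normal := by
    constructor
    rintro _ ⟨k, rfl⟩ g
    have h1 : Commute g Z := Subtype.ext (mem_centralizer_singleton_iff.1 g.2)
    refine ⟨k, ?_⟩
    show Z ^ k = g * Z ^ k * g⁻¹
    rw [(h1.zpow_right k).eq, mul_inv_cancel_right]
  let A : C := ⟨a, mC haz⟩
  let B : C := ⟨b, mC hbz⟩
  let U : C := ⟨u, mC huz⟩
  let V : C := ⟨v, mC hvz⟩
  let f := QuotientGroup.mk' (zpowers Z)
  have hfz : f Z = 1 := (QuotientGroup.eq_one_iff _).2 (mem_zpowers Z)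
  have hker : ∀ y : C, f y = 1 → ∃ k : ℤ, (y : K) = z ^ k := by
    intro y hy
    obtain ⟨k, hk⟩ := (QuotientGroup.eq_one_iff _).1 hy
    exact ⟨k, by rw [← hk]; rfl⟩
  have hAp : f A ^ p = 1 := by
    rw [← map_pow, show A ^ p = 1 from Subtype.ext ha, map_one]
  have hBp : f B ^ p = 1 := by
    rw [← map_pow, show B ^ p = 1 from Subtype.ext hb, map_one]
  have hA1 : f A ≠ 1 := by
    intro h
    obtain ⟨k, hk⟩ := hker A h
    exact ha1 ⟨k, hk.symm⟩
  have hBA : f B ∉ zpowers (f A) := by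
    rintro ⟨k, hk⟩
    have hk' : f A ^ k = f B := hk
    obtain ⟨l, hl⟩ := hker ((A ^ k)⁻¹ * B) (by rw [map_mul, map_inv, map_zpow, hk', inv_mul_cancel])
    have hl' : (a ^ k)⁻¹ * b = z ^ l := hl
    exact hba k l (by rw [← hl', mul_inv_cancel_left])
  have hB1 : f B ≠ 1 := fun h => hBA (h ▸ one_mem _)
  have hPE : PE p (f U * f V) := by
    rw [← map_mul]
    refine PE.map ?_ f
    exact PE.coe.1 hpe
  refine not_pe_closure (a := f A) (b := f B) (u := f U) (v := f V) (m := m) (n := n)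
    (orderOf_eq_prime hAp hA1) (orderOf_eq_prime hBp hB1) ?_ hBA hm hn ?_ ?_ ?_ ?_ hPE
  · rw [← map_mul, ← map_mul, show A * B = B * A from Subtype.ext hab]
  · rw [← map_mul, ← map_mul, show U * A = A * U from Subtype.ext hua]
  · rw [← map_mul, ← map_inv, ← map_mul, show U * B * U⁻¹ = B * A ^ m * Z ^ i from Subtype.ext hub]
    rw [map_mul, map_mul, map_zpow, map_zpow, hfz, one_zpow, mul_one]
  · rw [← map_mul, ← map_mul, show V * B = B * V from Subtype.ext hvb]
  · rw [← map_mul, ← map_inv, ← map_mul, show V * A * V⁻¹ = A * B ^ n * Z ^ j from Subtype.ext hva]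
    rw [map_mul, map_mul, map_zpow, map_zpow, hfz, one_zpow, mul_one]

end Cfsg.Agent.H235.AA.Transv
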