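import Cfsg.Agent.H235.AA.Th3Rel
import Cfsg.Agent.H235.AA.ThBase
import Cfsg.Agent.H235.AA.TransvMod
import Cfsg.Agent.H777.Th3.SylI
import Cfsg.Agent.H777.PGrp

/-!
# The `AA` problem for `Th`, the prime 3 (helper235)

The two minimal parabolics `⟨Sg, m1⟩`, `⟨Sg, m2⟩` of helper777's Sylow 3-subgroup `Sg`: an element of `Sg` with `PC 3`
acts trivially on `⟨u1, u2⟩` and on `⟨u1, u2, m1 u2 m1⟩ / ⟨u1⟩`, so the subgroup generated by these elements of `Sg` is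
normalised by `Sg`, `m1`, `m2`; it contains `u1`, and then an element which does not act trivially.
-/

set_option autoImplicit false
set_option maxRecDepth 100000

namespace Cfsg.Agent.H235.AA.Th3

open Subgroup Cfsg Cfsg.Agent.H460.AA Cfsg.Agent.H777.Th3 Cfsg.Agent.H777.Th3.Dat
open Cfsg.Agent.H235.AA.Tools Cfsg.Agent.H235.AA.Transv

instance fact3 : Fact (Nat.Prime 3) := ⟨Nat.prime_three⟩

theorem val3 : ∀ f : ZMod 3, f ≠ 0 → f.val = 1 ∨ f.val = 2 := by decide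

theorem val_two3 : (2 : ZMod 3).val = 2 := rfl

theorem u1_pow_int (k : ℤ) : ∃ n : ℕ, thDat.u1 ^ k = thDat.uu (n • (1, 0, 0, 0, 0)) := by
  have h : thDat.u1 ^ k ∈ zpowers thDat.u1 := ⟨k, rfl⟩
  have hf : IsOfFinOrder thDat.u1 := isOfFinOrder_iff_pow_eq_one.2 ⟨3, by norm_num, thDat.c1⟩
  rw [← hf.mem_powers_iff_mem_zpowers] at h
  obtain ⟨n, hn⟩ := h
  have hn' : thDat.u1 ^ n = thDat.u1 ^ k := hn
  exact ⟨n, by rw [uu_nsmul, uu_1, hn']⟩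

theorem u2_pow_int (k : ℤ) : ∃ n : ℕ, thDat.u2 ^ k = thDat.uu (n • (0, 1, 0, 0, 0)) := by
  have h : thDat.u2 ^ k ∈ zpowers thDat.u2 := ⟨k, rfl⟩
  have hf : IsOfFinOrder thDat.u2 := isOfFinOrder_iff_pow_eq_one.2 ⟨3, by norm_num, thDat.c2⟩
  rw [← hf.mem_powers_iff_mem_zpowers] at h
  obtain ⟨n, hn⟩ := h
  have hn' : thDat.u2 ^ n = thDat.u2 ^ k := hn
  exact ⟨n, by rw [uu_nsmul, uu_2, hn']⟩

theorem u2_not_mem : thDat.u2 ∉ zpowers thDat.u1 := by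
  rintro ⟨k, hk⟩
  obtain ⟨n, hn⟩ := u1_pow_int k
  have h1 : thDat.uu (0, 1, 0, 0, 0) = thDat.uu (n • (1, 0, 0, 0, 0)) := by
    rw [uu_2, ← hn]; exact hk.symm
  have h2 := congrArg (fun e : V5 => e.2.1) (uu_injective th_u1_ne h1)
  simp at h2

theorem u2_ne : thDat.u2 ≠ 1 := fun h => u2_not_mem (h ▸ one_mem _)

/-- the vector `b = m1 u2 m1` -/
abbrev bv : V5 := (0, 2, 2, 1, 2)

theorem b_ne (i j : ℤ) : thDat.uu bv ≠ thDat.u2 ^ i * thDat.u1 ^ j := by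
  intro h
  obtain ⟨n, hn⟩ := u2_pow_int i
  obtain ⟨m, hm⟩ := u1_pow_int j
  rw [hn, hm, ← uu_add] at h
  have h2 := congrArg (fun e : V5 => e.2.2.2.1) (uu_injective th_u1_ne h)
  simp at h2

theorem m1_inv : em1⁻¹ = em1 := inv_eq_of_mul_eq_one_right m1_sq

theorem c1 {m x w : Cfsg.Spor.Th} (h : x * m = m * w) : m⁻¹ * x * m = w := by
  rw [mul_assoc, h, inv_mul_cancel_left]

theorem m1_u2' : em1 * thDat.u2 * em1 = thDat.uu bv := by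
  have h := c1 (w := thDat.u2 ^ 2 * thDat.u3 ^ 2 * thDat.u4 * thDat.u5 ^ 2) (by rw [m1_u2]; simp only [mul_assoc])
  rw [m1_inv] at h
  rw [h]
  simp [uu, val_two3, ZMod.val_one]

theorem m1_u1' : em1 * thDat.u1 * em1 = thDat.u1 ^ 2 := by
  have h := c1 m1_u1
  rwa [m1_inv] at h

theorem comm_u1 {x : Cfsg.Spor.Th} (hx : x ∈ thDat.Sg) : Commute x⁻¹ thDat.u1 := by
  have h := conj_u1 hx
  show x⁻¹ * thDat.u1 = thDat.u1 * x⁻¹
  rw [← mul_inv_eq_iff_eq_mul, inv_inv]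
  exact h

/-- the elements of `Sg` with `PC 3` act trivially on `⟨u1, u2⟩` -/
theorem fS_zero {x : Cfsg.Spor.Th} (hx : x ∈ thDat.Sg) (hP : PC 3 x) : thDat.fS x = 0 := by
  by_contra hf
  have hs := fS_spec hx
  have hv := val3 _ hf
  generalize (thDat.fS x).val = n at hs hv
  have hu1 := comm_u1 hx
  have k2 : em2⁻¹ * thDat.u2 * em2 = thDat.u1 := c1 m2_u2
  have k1 : em2⁻¹ * thDat.u1 * em2 = thDat.u2 ^ 2 := c1 m2_u1
  have k2' : em2 * thDat.u1 * em2⁻¹ = thDat.u2 := by rw [← k2]; group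
  have k1' : em2 * thDat.u2 ^ 2 * em2⁻¹ = thDat.u1 := by rw [← k1]; group
  have c12 : Commute thDat.u1 thDat.u2 := thDat.k12
  refine not_pe_closure (p := 3) (a := thDat.u1) (b := thDat.u2) (u := x⁻¹) (v := em2 * x⁻¹ * em2⁻¹) (m := n) (n := 2 * n)
    (orderOf_eq_prime thDat.c1 th_u1_ne) (orderOf_eq_prime thDat.c2 u2_ne) thDat.k12 u2_not_mem ?_ ?_ hu1.eq ?_ ?_ ?_
    (hP.inv em2)
  · rcases hv with rfl | rfl <;> norm_num
  · rcases hv with rfl | rfl <;> norm_num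
  · rw [inv_inv, hs, zpow_natCast, (c12.pow_left n).eq]
  · calc em2 * x⁻¹ * em2⁻¹ * thDat.u2 = em2 * (x⁻¹ * (em2⁻¹ * thDat.u2 * em2)) * em2⁻¹ := by group
      _ = em2 * (thDat.u1 * x⁻¹) * em2⁻¹ := by rw [k2, hu1.eq]
      _ = (em2 * thDat.u1 * em2⁻¹) * (em2 * x⁻¹ * em2⁻¹) := by group
      _ = _ := by rw [k2']
  · have e1 : em2 * x⁻¹ * em2⁻¹ * thDat.u1 * (em2 * x⁻¹ * em2⁻¹)⁻¹ =
        em2 * (x⁻¹ * (em2⁻¹ * thDat.u1 * em2) * x) * em2⁻¹ := by group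
    have e2 : x⁻¹ * thDat.u2 ^ 2 * x = (thDat.u1 ^ n * thDat.u2) ^ 2 := by
      rw [← hs]
      simp only [pow_two]
      group
    have e3 : (thDat.u1 ^ n * thDat.u2) ^ 2 = thDat.u2 ^ 2 * thDat.u1 ^ (2 * n) := by
      rw [(c12.pow_left n).mul_pow, ← pow_mul, mul_comm n 2]
      exact ((c12.pow_pow (2 * n) 2)).eq
    have e4 : em2 * (thDat.u2 ^ 2 * thDat.u1 ^ (2 * n)) * em2⁻¹ =
        (em2 * thDat.u2 ^ 2 * em2⁻¹) * (em2 * thDat.u1 * em2⁻¹) ^ (2 * n) := by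
      rw [conj_pow]; group
    rw [e1, k1, e2, e3, e4, k1', k2']
    norm_cast

theorem dec_b : ∀ a b c d : ZMod 3, Tq (a, b, c, d) bv = bv + (0, a - b, 0, 0, 0) + (2 * b, 0, 0, 0, 0) := by
  decide +kernel

/-- the elements of `Tg` with `PC 3` act trivially on `⟨u1, u2, m1 u2 m1⟩ / ⟨u1⟩` -/
theorem qT_eq_of_PC {x : Cfsg.Spor.Th} (hx : x ∈ thDat.Tg) (hP : PC 3 x) : (thDat.qT x).1 = (thDat.qT x).2.1 := by
  by_contra hne
  have hA := qT_spec hx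
  have hxS : x ∈ thDat.Sg := thDat.Tg_le_Sg hx
  obtain ⟨q, hq⟩ : ∃ q, thDat.qT x = q := ⟨_, rfl⟩
  obtain ⟨a, b, c, d⟩ := q
  rw [hq] at hne
  have hne' : a ≠ b := hne
  have hA' : thDat.Act x (Tq (a, b, c, d)) := by rw [← hq]; exact hA
  have hu1 := comm_u1 hxS
  have hab : a - b ≠ 0 := sub_ne_zero.2 hne'
  have hv := val3 _ hab
  -- the action on `b`
  have hb1 : x⁻¹ * thDat.uu bv * x = thDat.uu bv * thDat.u2 ^ (a - b).val * thDat.u1 ^ (2 * b).val := by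
    rw [hA' bv]
    have e1 := dec_b a b c d
    have e2 : thDat.uu (0, a - b, 0, 0, 0) = thDat.u2 ^ (a - b).val := by simp [uu]
    have e3 : thDat.uu (2 * b, 0, 0, 0, 0) = thDat.u1 ^ (2 * b).val := by simp [uu]
    rw [e1, uu_add, uu_add, e2, e3]
  have hu2 : Commute x⁻¹ thDat.u2 := by
    have h1 := hA' (0, 1, 0, 0, 0)
    have e1 : Tq (a, b, c, d) (0, 1, 0, 0, 0) = (0, 1, 0, 0, 0) := by simp [Tq, T]
    rw [e1, uu_2] at h1
    show x⁻¹ * thDat.u2 = thDat.u2 * x⁻¹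
    rw [← mul_inv_eq_iff_eq_mul, inv_inv]
    exact h1
  generalize (a - b).val = n at hb1 hv
  generalize (2 * b).val = l at hb1
  have k12 : thDat.uu bv * thDat.u2 = thDat.u2 * thDat.uu bv := by rw [← uu_2]; exact thDat.uu_comm _ _
  have k11 : thDat.uu bv * thDat.u1 = thDat.u1 * thDat.uu bv := by rw [← uu_1]; exact thDat.uu_comm _ _
  have m1b : em1 * thDat.uu bv * em1 = thDat.u2 := by
    rw [← m1_u2']
    calc em1 * (em1 * thDat.u2 * em1) * em1 = (em1 * em1) * thDat.u2 * (em1 * em1) := by group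
      _ = thDat.u2 := by rw [m1_sq]; group
  have m1u1 : em1 * thDat.u1 ^ 2 * em1 = thDat.u1 := by
    rw [← m1_u1']
    calc em1 * (em1 * thDat.u1 * em1) * em1 = (em1 * em1) * thDat.u1 * (em1 * em1) := by group
      _ = thDat.u1 := by rw [m1_sq]; group
  refine not_pe_mod (p := 3) (z := thDat.u1) (a := thDat.u2) (b := thDat.uu bv) (u := x⁻¹) (v := em1 * x⁻¹ * em1⁻¹)
    (m := n) (n := n) (i := l) (j := 2 * l) thDat.k12.symm k11 hu1.eq ?_ thDat.c2 (thDat.uu_cube _) k12.symm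
    u2_not_mem b_ne ?_ ?_ hu2.eq ?_ ?_ ?_ (hP.inv em1)
  · -- `v` centralises `u1`
    rw [m1_inv]
    calc em1 * x⁻¹ * em1 * thDat.u1 = em1 * (x⁻¹ * (em1 * thDat.u1 * em1)) * em1⁻¹ := by group
      _ = em1 * (thDat.u1 ^ 2 * x⁻¹) * em1⁻¹ := by rw [m1_u1', (hu1.pow_right 2).eq]
      _ = (em1 * thDat.u1 ^ 2 * em1) * (em1⁻¹ * x⁻¹ * em1⁻¹) := by group
      _ = thDat.u1 * (em1 * x⁻¹ * em1) := by rw [m1u1, m1_inv]
  · rcases hv with rfl | rfl <;> norm_num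
  · rcases hv with rfl | rfl <;> norm_num
  · rw [inv_inv, hb1, zpow_natCast, zpow_natCast]
  · -- `v` centralises `b`
    rw [m1_inv, ← m1_u2']
    calc em1 * x⁻¹ * em1 * (em1 * thDat.u2 * em1) = em1 * (x⁻¹ * ((em1 * em1) * thDat.u2)) * em1 := by group
      _ = em1 * (thDat.u2 * (em1 * em1) * x⁻¹) * em1 := by rw [m1_sq, one_mul, hu2.eq, mul_one]
      _ = em1 * thDat.u2 * em1 * (em1 * x⁻¹ * em1) := by group
  · -- the action of `v` on `u2`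
    have e1 : em1 * x⁻¹ * em1⁻¹ * thDat.u2 * (em1 * x⁻¹ * em1⁻¹)⁻¹ =
        em1 * (x⁻¹ * (em1⁻¹ * thDat.u2 * em1) * x) * em1⁻¹ := by group
    have e2 : em1 * (thDat.uu bv * thDat.u2 ^ n * thDat.u1 ^ l) * em1⁻¹ =
        (em1 * thDat.uu bv * em1⁻¹) * (em1 * thDat.u2 * em1⁻¹) ^ n * (em1 * thDat.u1 * em1⁻¹) ^ l := by
      rw [conj_pow, conj_pow]; group
    rw [e1, m1_inv, m1_u2', hb1]
    nth_rw 2 [← m1_inv]
    rw [e2, m1_inv, m1b, m1_u2', m1_u1', ← pow_mul, zpow_natCast]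
    norm_cast

/-- the elements of `Tg` acting trivially on the section -/
noncomputable def R12 : Subgroup Cfsg.Spor.Th where
  carrier := {x | x ∈ thDat.Tg ∧ (thDat.qT x).1 = (thDat.qT x).2.1}
  one_mem' := ⟨one_mem _, by rw [qT_one th_u1_ne]; rfl⟩
  mul_mem' := by
    rintro x y ⟨hx, hx'⟩ ⟨hy, hy'⟩
    refine ⟨mul_mem hx hy, ?_⟩
    rw [qT_mul th_u1_ne hx hy, Prod.fst_add, Prod.snd_add, Prod.fst_add, hx', hy']
  inv_mem' := by
    rintro x ⟨hx, hx'⟩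
    refine ⟨inv_mem hx, ?_⟩
    rw [qT_inv th_u1_ne hx, Prod.fst_neg, Prod.snd_neg, Prod.fst_neg, hx']

theorem mem_R12 {x : Cfsg.Spor.Th} (hx : x ∈ thDat.Sg) (hP : PC 3 x) : x ∈ R12 := by
  have h1 : x ∈ thDat.Tg := (mem_Tg_iff_fS th_u1_ne hx).2 (fS_zero hx hP)
  exact ⟨h1, qT_eq_of_PC h1 hP⟩

/-- a subgroup containing the generators contains `R12` -/
theorem R12_le {H : Subgroup Cfsg.Spor.Th} (h1 : thDat.u1 ∈ H) (h2 : thDat.u2 ∈ H) (h3 : thDat.u3 ∈ H)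
    (h4 : thDat.u4 ∈ H) (h5 : thDat.u5 ∈ H) (h6 : thDat.v1 * thDat.v2 ∈ H) (h7 : thDat.r1 ∈ H) (h8 : thDat.r2 ∈ H) :
    R12 ≤ H := by
  rintro x ⟨hx, hx'⟩
  obtain ⟨e, a, b, c, d, rfl⟩ := (thDat.mem_Tg).1 hx
  rw [qT_w4 th_u1_ne] at hx'
  have hab : a = b := hx'
  subst hab
  have c12 : Commute thDat.v1 thDat.v2 := thDat.j_v1_v2
  unfold uu w4
  rw [← c12.mul_pow]
  exact mul_mem (mul_mem (mul_mem (mul_mem (mul_mem (pow_mem h1 _) (pow_mem h2 _)) (pow_mem h3 _)) (pow_mem h4 _))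
    (pow_mem h5 _)) (mul_mem (mul_mem (pow_mem h6 _) (pow_mem h7 _)) (pow_mem h8 _))

theorem m1_R12 {x : Cfsg.Spor.Th} (hx : x ∈ R12) : em1⁻¹ * x * em1 ∈ thDat.Sg := by
  have hU : ∀ {y}, y ∈ thDat.U → y ∈ thDat.Sg := fun h => thDat.U_le_Sg h
  have h1 := hU thDat.u1_mem
  have h2 := hU thDat.u2_mem
  have h3 := hU thDat.u3_mem
  have h4 := hU thDat.u4_mem
  have h5 := hU thDat.u5_mem
  have h7 : thDat.r1 ∈ thDat.Sg := r1_Sg
  have h8 : thDat.r2 ∈ thDat.Sg := r2_Sg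
  have key : R12 ≤ thDat.Sg.comap (MulAut.conj em1⁻¹).toMonoidHom := by
    have hc : ∀ {y w : Cfsg.Spor.Th}, y * em1 = em1 * w → w ∈ thDat.Sg →
        y ∈ thDat.Sg.comap (MulAut.conj em1⁻¹).toMonoidHom := by
      intro y w hy hw
      show em1⁻¹ * y * em1⁻¹⁻¹ ∈ thDat.Sg
      rw [inv_inv, c1 hy]
      exact hw
    refine R12_le ?_ ?_ ?_ ?_ ?_ ?_ ?_ ?_
    · exact hc m1_u1 (pow_mem h1 2)
    · exact hc (w := thDat.u2 ^ 2 * thDat.u3 ^ 2 * thDat.u4 * thDat.u5 ^ 2) (by rw [m1_u2]; simp only [mul_assoc])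
        (mul_mem (mul_mem (mul_mem (pow_mem h2 2) (pow_mem h3 2)) h4) (pow_mem h5 2))
    · exact hc (w := thDat.u1 * thDat.u2 ^ 2 * thDat.u3 ^ 2 * thDat.u4 ^ 2 * thDat.u5 * thDat.r1 ^ 2)
        (by rw [m1_u3]; simp only [mul_assoc])
        (mul_mem (mul_mem (mul_mem (mul_mem (mul_mem h1 (pow_mem h2 2)) (pow_mem h3 2)) (pow_mem h4 2)) h5) (pow_mem h7 2))
    · exact hc m1_u4 h4
    · exact hc (w := thDat.u1 * thDat.u2 * thDat.u3 ^ 2 * thDat.u4 * thDat.r1) (by rw [m1_u5]; simp only [mul_assoc])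
        (mul_mem (mul_mem (mul_mem (mul_mem h1 h2) (pow_mem h3 2)) h4) h7)
    · exact hc (w := thDat.u1 * thDat.u3 * thDat.r1 ^ 2 * thDat.r2 ^ 2 * thDat.x0) (by rw [m1_v1_v2]; simp only [mul_assoc])
        (mul_mem (mul_mem (mul_mem (mul_mem h1 h3) (pow_mem h7 2)) (pow_mem h8 2)) thDat.x0_Sg)
    · exact hc m1_r1 (pow_mem h7 2)
    · exact hc (w := thDat.u4 * thDat.r2 ^ 2) (by rw [m1_r2, mul_assoc]) (mul_mem h4 (pow_mem h8 2))
  have h := key hx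
  have h' : em1⁻¹ * x * em1⁻¹⁻¹ ∈ thDat.Sg := h
  rwa [inv_inv] at h'

theorem m2_R12 {x : Cfsg.Spor.Th} (hx : x ∈ R12) : em2⁻¹ * x * em2 ∈ thDat.Sg := by
  have hU : ∀ {y}, y ∈ thDat.U → y ∈ thDat.Sg := fun h => thDat.U_le_Sg h
  have h1 := hU thDat.u1_mem
  have h2 := hU thDat.u2_mem
  have h3 := hU thDat.u3_mem
  have h4 := hU thDat.u4_mem
  have h5 := hU thDat.u5_mem
  have h7 : thDat.r1 ∈ thDat.Sg := r1_Sg
  have h8 : thDat.r2 ∈ thDat.Sg := r2_Sg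
  have h9 : thDat.v1 ∈ thDat.Sg := v1_Sg
  have h10 : thDat.v2 ∈ thDat.Sg := v2_Sg
  have key : R12 ≤ thDat.Sg.comap (MulAut.conj em2⁻¹).toMonoidHom := by
    have hc : ∀ {y w : Cfsg.Spor.Th}, y * em2 = em2 * w → w ∈ thDat.Sg →
        y ∈ thDat.Sg.comap (MulAut.conj em2⁻¹).toMonoidHom := by
      intro y w hy hw
      show em2⁻¹ * y * em2⁻¹⁻¹ ∈ thDat.Sg
      rw [inv_inv, c1 hy]
      exact hw
    refine R12_le ?_ ?_ ?_ ?_ ?_ ?_ ?_ ?_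
    · exact hc m2_u1 (pow_mem h2 2)
    · exact hc m2_u2 h1
    · exact hc m2_u3 (pow_mem h3 2)
    · exact hc m2_u4 (pow_mem h4 2)
    · exact hc m2_u5 h5
    · refine mul_mem ?_ ?_
      · exact hc (w := thDat.u2 * thDat.v2 ^ 2) (by rw [m2_v1, mul_assoc]) (mul_mem h2 (pow_mem h10 2))
      · exact hc (w := thDat.u1 * thDat.u3 ^ 2 * thDat.v1) (by rw [m2_v2]; simp only [mul_assoc])
          (mul_mem (mul_mem h1 (pow_mem h3 2)) h9)
    · exact hc (w := thDat.u1 ^ 2 * thDat.u2 * thDat.u3 * thDat.u4 * thDat.v1 ^ 2 * thDat.r1 ^ 2 * thDat.r2)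
        (by rw [m2_r1]; simp only [mul_assoc])
        (mul_mem (mul_mem (mul_mem (mul_mem (mul_mem (mul_mem (pow_mem h1 2) h2) h3) h4) (pow_mem h9 2)) (pow_mem h7 2)) h8)
    · exact hc (w := thDat.u1 ^ 2 * thDat.u2 ^ 2 * thDat.u3 ^ 2 * thDat.u4 ^ 2 * thDat.u5 * thDat.v1 ^ 2 * thDat.v2 ^ 2 *
          thDat.r1 * thDat.r2) (by rw [m2_r2]; simp only [mul_assoc])
        (mul_mem (mul_mem (mul_mem (mul_mem (mul_mem (mul_mem (mul_mem (mul_mem (pow_mem h1 2) (pow_mem h2 2))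
          (pow_mem h3 2)) (pow_mem h4 2)) h5) (pow_mem h9 2)) (pow_mem h10 2)) h7) h8)
  have h := key hx
  have h' : em2⁻¹ * x * em2⁻¹⁻¹ ∈ thDat.Sg := h
  rwa [inv_inv] at h'

/-- the subgroup generated by the elements of `Sg` with `PC 3` -/
noncomputable def D : Subgroup Cfsg.Spor.Th := closure {x | x ∈ thDat.Sg ∧ PC 3 x}

theorem D_le_R12 : D ≤ R12 := by
  unfold D
  rw [closure_le]
  rintro x ⟨hx, hP⟩
  exact mem_R12 hx hP

theorem D_le_Sg : D ≤ thDat.Sg := fun _ hx => thDat.Tg_le_Sg (D_le_R12 hx).1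

theorem conj_D {g : Cfsg.Spor.Th} (hg : ∀ x ∈ thDat.Sg, PC 3 x → g⁻¹ * x * g ∈ thDat.Sg) {x : Cfsg.Spor.Th}
    (hx : x ∈ D) : g⁻¹ * x * g ∈ D := by
  have key : D ≤ D.comap (MulAut.conj g⁻¹).toMonoidHom := by
    conv_lhs => unfold D
    rw [closure_le]
    rintro y ⟨hy, hP⟩
    show g⁻¹ * y * g⁻¹⁻¹ ∈ D
    refine subset_closure ⟨?_, hP.conj g⁻¹⟩
    rw [inv_inv]
    exact hg y hy hP
  have h : g⁻¹ * x * g⁻¹⁻¹ ∈ D := key hx
  rwa [inv_inv] at h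

theorem D_m1 {x : Cfsg.Spor.Th} (hx : x ∈ D) : em1⁻¹ * x * em1 ∈ D :=
  conj_D (fun _ hy hP => m1_R12 (mem_R12 hy hP)) hx

theorem D_m2 {x : Cfsg.Spor.Th} (hx : x ∈ D) : em2⁻¹ * x * em2 ∈ D :=
  conj_D (fun _ hy hP => m2_R12 (mem_R12 hy hP)) hx

theorem D_Sg {s x : Cfsg.Spor.Th} (hs : s ∈ thDat.Sg) (hx : x ∈ D) : s⁻¹ * x * s ∈ D :=
  conj_D (fun _ hy _ => mul_mem (mul_mem (inv_mem hs) hy) hs) hx

/-- `D` does not contain `u1` -/
theorem u1_not_mem_D : thDat.u1 ∉ D := by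
  intro h1
  have h2 : thDat.u2 ∈ D := by
    have h := D_m2 h1
    rw [c1 m2_u1] at h
    have h3 := pow_mem h 2
    have e : (thDat.u2 ^ 2) ^ 2 = thDat.u2 := by
      calc (thDat.u2 ^ 2) ^ 2 = thDat.u2 ^ 3 * thDat.u2 := by rw [← pow_mul, ← pow_succ]
        _ = thDat.u2 := by rw [thDat.c2, one_mul]
    rwa [e] at h3
  have hb : thDat.uu bv ∈ D := by
    have h := D_m1 h2
    rwa [m1_inv, m1_u2'] at h
  have hb2 : thDat.uu (2, 0, 1, 2, 2) ∈ D := by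
    have h := D_m2 hb
    have e : em2⁻¹ * thDat.uu bv * em2 = thDat.uu (2, 0, 1, 2, 2) := by
      have k2 : em2⁻¹ * thDat.u2 * em2 = thDat.u1 := c1 m2_u2
      have k3 : em2⁻¹ * thDat.u3 * em2 = thDat.u3 ^ 2 := c1 m2_u3
      have k4 : em2⁻¹ * thDat.u4 * em2 = thDat.u4 ^ 2 := c1 m2_u4
      have k5 : em2⁻¹ * thDat.u5 * em2 = thDat.u5 := c1 m2_u5
      have e1 : thDat.uu bv = thDat.u2 ^ 2 * thDat.u3 ^ 2 * thDat.u4 * thDat.u5 ^ 2 := by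
        simp [uu, val_two3, ZMod.val_one]
      have e2 : em2⁻¹ * thDat.uu bv * em2 =
          (em2⁻¹ * thDat.u2 * em2) ^ 2 * (em2⁻¹ * thDat.u3 * em2) ^ 2 * (em2⁻¹ * thDat.u4 * em2) *
            (em2⁻¹ * thDat.u5 * em2) ^ 2 := by
        rw [e1]
        simp only [pow_two]
        group
      rw [e2, k2, k3, k4, k5]
      have e3 : (thDat.u3 ^ 2) ^ 2 = thDat.u3 := by
        calc (thDat.u3 ^ 2) ^ 2 = thDat.u3 ^ 3 * thDat.u3 := by rw [← pow_mul, ← pow_succ]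
          _ = thDat.u3 := by rw [thDat.c3, one_mul]
      rw [e3]
      simp [uu, val_two3, ZMod.val_one]
    rwa [e] at h
  have h5 : thDat.u5 ∈ D := by
    have h := mul_mem (mul_mem (mul_mem hb hb2) (show thDat.uu (1, 0, 0, 0, 0) ∈ D by rw [uu_1]; exact h1))
      (show thDat.uu (0, 1, 0, 0, 0) ∈ D by rw [uu_2]; exact h2)
    rw [← uu_add, ← uu_add, ← uu_add] at h
    have e : bv + (2, 0, 1, 2, 2) + (1, 0, 0, 0, 0) + (0, 1, 0, 0, 0) = ((0, 0, 0, 0, 1) : V5) := by decide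
    rwa [e, uu_5] at h
  have h6 := D_m1 h5
  rw [c1 (w := thDat.u1 * thDat.u2 * thDat.u3 ^ 2 * thDat.u4 * thDat.r1) (by rw [m1_u5]; simp only [mul_assoc])] at h6
  have h7 := D_m2 h6
  have e : em2⁻¹ * (thDat.u1 * thDat.u2 * thDat.u3 ^ 2 * thDat.u4 * thDat.r1) * em2 =
      (em2⁻¹ * thDat.u1 * em2) * (em2⁻¹ * thDat.u2 * em2) * (em2⁻¹ * thDat.u3 * em2) ^ 2 * (em2⁻¹ * thDat.u4 * em2) *
        (em2⁻¹ * thDat.r1 * em2) := by
    simp only [pow_two]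
    group
  rw [e, c1 m2_u1, c1 m2_u2, c1 m2_u3, c1 m2_u4,
    c1 (w := thDat.u1 ^ 2 * thDat.u2 * thDat.u3 * thDat.u4 * thDat.v1 ^ 2 * thDat.r1 ^ 2 * thDat.r2)
      (by rw [m2_r1]; simp only [mul_assoc])] at h7
  have h8 := D_le_R12 h7
  -- the element modulo `U`
  have hw : thDat.u2 ^ 2 * thDat.u1 * (thDat.u3 ^ 2) ^ 2 * thDat.u4 ^ 2 *
      (thDat.u1 ^ 2 * thDat.u2 * thDat.u3 * thDat.u4) ∈ thDat.U :=
    mul_mem (mul_mem (mul_mem (mul_mem (pow_mem thDat.u2_mem 2) thDat.u1_mem) (pow_mem (pow_mem thDat.u3_mem 2) 2))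
      (pow_mem thDat.u4_mem 2)) (mul_mem (mul_mem (mul_mem (pow_mem thDat.u1_mem 2) thDat.u2_mem) thDat.u3_mem)
      thDat.u4_mem)
  obtain ⟨w, hw⟩ := (thDat.mem_U).1 hw
  have h9 : thDat.u2 ^ 2 * thDat.u1 * (thDat.u3 ^ 2) ^ 2 * thDat.u4 ^ 2 *
      (thDat.u1 ^ 2 * thDat.u2 * thDat.u3 * thDat.u4 * thDat.v1 ^ 2 * thDat.r1 ^ 2 * thDat.r2) =
      thDat.uu w * thDat.w4 2 0 2 1 := by
    rw [← hw]
    simp only [w4, val_two3, ZMod.val_one, ZMod.val_zero, pow_zero, pow_one, mul_one]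
    simp only [mul_assoc]
  rw [h9] at h8
  have h10 := h8.2
  rw [qT_w4 th_u1_ne] at h10
  exact absurd h10 (by decide)

theorem np_three : NP 3 Cfsg.Spor.Th := by
  refine NP.of_pa fun x hx => ?_
  by_contra hcon
  have hP : PC 3 x := by
    intro g
    by_contra h
    exact hcon ⟨g, h⟩
  have hfin : Finite Cfsg.Spor.Th := Cfsg.Agent.H478.RadTh.fin
  -- the Sylow subgroup
  have hfac : (Nat.card Cfsg.Spor.Th).factorization 3 = 10 := by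
    have h0 : Nat.card Cfsg.Spor.Th ≠ 0 := Nat.card_pos.ne'
    have h1 : 3 ^ 10 ∣ Nat.card Cfsg.Spor.Th := by rw [Cfsg.Agent.H478.RadTh.card_Th]; norm_num
    have h2 : ¬ 3 ^ 11 ∣ Nat.card Cfsg.Spor.Th := by rw [Cfsg.Agent.H478.RadTh.card_Th]; norm_num
    rw [Nat.prime_three.pow_dvd_iff_le_factorization h0] at h1 h2
    omega
  let T : Sylow 3 Cfsg.Spor.Th := Sylow.ofCard thDat.Sg (by rw [hfac, card_Sg th_u1_ne])
  have hA : IsPGroup 3 (zpowers x) := IsPGroup.of_card (n := 1) (by rw [Nat.card_zpowers, hx, pow_one])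
  obtain ⟨Q, hQ⟩ := hA.exists_le_sylow
  obtain ⟨g, hg⟩ := MulAction.exists_smul_eq Cfsg.Spor.Th Q T
  have hgx : g * x * g⁻¹ ∈ thDat.Sg := by
    have h1 : g * x * g⁻¹ ∈ (T : Subgroup Cfsg.Spor.Th) := by
      rw [← hg, Sylow.coe_subgroup_smul]
      exact ⟨x, hQ (mem_zpowers x), rfl⟩
    exact h1
  have hxD : g * x * g⁻¹ ∈ D := subset_closure ⟨hgx, hP.conj g⟩
  have hx1 : g * x * g⁻¹ ≠ 1 := by
    intro h
    rw [conj_eq_one_iff] at h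
    rw [h, orderOf_one] at hx
    omega
  have hD1 : D ≠ ⊥ := fun h => hx1 (by rw [h] at hxD; exact mem_bot.1 hxD)
  -- the centre
  have hfS := finite_Sg (D := thDat) th_u1_ne
  have hn : (D.subgroupOf thDat.Sg).Normal := by
    constructor
    intro n hn s
    have h1 := D_Sg (inv_mem s.2) (mem_subgroupOf.1 hn)
    rw [inv_inv] at h1
    exact mem_subgroupOf.2 h1
  have hne : D.subgroupOf thDat.Sg ≠ ⊥ := by
    intro h
    apply hx1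
    have h2 : (⟨_, hgx⟩ : thDat.Sg) ∈ D.subgroupOf thDat.Sg := mem_subgroupOf.2 hxD
    rw [h, mem_bot] at h2
    exact congrArg Subtype.val h2
  obtain ⟨b, hb, hb1, hbc⟩ := Cfsg.Agent.H777.PGrp.inf_center_ne_bot (isPGroup_Sg th_u1_ne) hne hn
  obtain ⟨k, hk⟩ := center_eq th_u1_ne b.2 (fun s hs => (congrArg Subtype.val (hbc ⟨s, hs⟩)).symm)
  have hbD : (b : Cfsg.Spor.Th) ∈ D := mem_subgroupOf.1 hb
  rw [hk] at hbD
  have hk0 : k ≠ 0 := by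
    rintro rfl
    apply hb1
    apply Subtype.ext
    rw [hk]
    simp
  apply u1_not_mem_D
  rcases val3 k hk0 with h | h
  · rw [h, pow_one] at hbD
    exact hbD
  · rw [h] at hbD
    have h3 := pow_mem hbD 2
    have e : (thDat.u1 ^ 2) ^ 2 = thDat.u1 := by
      calc (thDat.u1 ^ 2) ^ 2 = thDat.u1 ^ 3 * thDat.u1 := by rw [← pow_mul, ← pow_succ]
        _ = thDat.u1 := by rw [thDat.c1, one_mul]
    rwa [e] at h3

theorem core {K : Type*} [Group K] [Finite K] (h : Cfsg.Spor.IsoTh K) : Core K := by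
  obtain ⟨e⟩ := h
  exact Core.of_equiv e (Th.core_of_three np_three)

end Cfsg.Agent.H235.AA.Th3
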