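import Cfsg.Agent.H777.Th3.ThEl

/-!
# Three more relations in the Thompson group (helper235)

`m1` is an involution normalising `R1`, `m2` normalises `Tg` (helper777's notation).
-/

set_option autoImplicit false
set_option Elab.async false
set_option maxRecDepth 100000

namespace Cfsg.Agent.H235.AA.Th3

open Cfsg.Agent.Th.Words248 Cfsg.Agent.Th.Gen248 Cfsg.Agent.H777.Th3

/-- the relations -/
def rels : List (Wd × Wd) := [
  ((.mul w_m1 w_m1), .one),
  ((.mul w_u3 w_m1), (.mul (.mul (.mul (.mul (.mul (.mul w_m1 w_u1) (.pow w_u2 2)) (.pow w_u3 2)) (.pow w_u4 2)) w_u5) (.pow w_r1 2))),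
  ((.mul w_r2 w_m2), (.mul (.mul (.mul (.mul (.mul (.mul (.mul (.mul (.mul w_m2 (.pow w_u1 2)) (.pow w_u2 2)) (.pow w_u3 2)) (.pow w_u4 2)) w_u5) (.pow w_v1 2)) (.pow w_v2 2)) w_r1) w_r2))]

/-- the relations between the stored words -/
def rlT : List (Rw × Rw) := [
  ((.mul (.at .m1) (.at .m1)), .one),
  ((.mul (.at .u3) (.at .m1)), (.mul (.mul (.mul (.mul (.mul (.mul (.at .m1) (.at .u1)) (.pow (.at .u2) 2)) (.pow (.at .u3) 2)) (.pow (.at .u4) 2)) (.at .u5)) (.pow (.at .r1) 2))),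
  ((.mul (.at .r2) (.at .m2)), (.mul (.mul (.mul (.mul (.mul (.mul (.mul (.mul (.mul (.at .m2) (.pow (.at .u1) 2)) (.pow (.at .u2) 2)) (.pow (.at .u3) 2)) (.pow (.at .u4) 2)) (.at .u5)) (.pow (.at .v1) 2)) (.pow (.at .v2) 2)) (.at .r1)) (.at .r2)))]

theorem ck1 : chkR [((.mul (.at .m1) (.at .m1)), .one)] = true := by decide +kernel

theorem ck2 : chkR [((.mul (.at .u3) (.at .m1)), (.mul (.mul (.mul (.mul (.mul (.mul (.at .m1) (.at .u1)) (.pow (.at .u2) 2)) (.pow (.at .u3) 2)) (.pow (.at .u4) 2)) (.at .u5)) (.pow (.at .r1) 2)))] = true := by decide +kernel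

theorem ck3 : chkR [((.mul (.at .r2) (.at .m2)), (.mul (.mul (.mul (.mul (.mul (.mul (.mul (.mul (.mul (.at .m2) (.pow (.at .u1) 2)) (.pow (.at .u2) 2)) (.pow (.at .u3) 2)) (.pow (.at .u4) 2)) (.at .u5)) (.pow (.at .v1) 2)) (.pow (.at .v2) 2)) (.at .r1)) (.at .r2)))] = true := by decide +kernel

theorem ckR : chkR rlT = true := chkR_append ck1 (chkR_append ck2 ck3)

theorem ck : chkL rels = true := chkL_of known ckR

theorem get (n : ℕ) (hn : n < rels.length) : el rels[n].1 = el rels[n].2 :=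
  of_chkL rels ck _ (List.getElem_mem hn)

theorem m1_sq : em1 * em1 = 1 := by
  have h : el (.mul w_m1 w_m1) = el .one := get 0 (by decide)
  rw [el_mul, el_one] at h
  exact h

theorem m1_u3 : thDat.u3 * em1 = em1 * thDat.u1 * thDat.u2 ^ 2 * thDat.u3 ^ 2 * thDat.u4 ^ 2 * thDat.u5 * thDat.r1 ^ 2 := by
  have h := get 1 (by decide)
  simp only [rels, List.getElem_cons_succ, List.getElem_cons_zero, el_mul, el_pow, el_one] at h
  exact h

theorem m2_r2 : thDat.r2 * em2 = em2 * thDat.u1 ^ 2 * thDat.u2 ^ 2 * thDat.u3 ^ 2 * thDat.u4 ^ 2 * thDat.u5 *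
    thDat.v1 ^ 2 * thDat.v2 ^ 2 * thDat.r1 * thDat.r2 := by
  have h := get 2 (by decide)
  simp only [rels, List.getElem_cons_succ, List.getElem_cons_zero, el_mul, el_pow, el_one] at h
  exact h

end Cfsg.Agent.H235.AA.Th3
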